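import Cfsg.Agent.TT95.Inv22.Plus
import Cfsg.Agent.Lib.Symplectic.Simple

/-!
Type M(22): the centraliser of the second involution.
-/

set_option autoImplicit false
set_option linter.unusedSectionVars false

namespace Cfsg.Agent.TT95.Inv22

open Cfsg.Agent.TT95.Uni22 Cfsg.Agent.TT95.Calc QuadraticMap Cfsg.Agent.OrthCohom

/-- The coordinates. -/
abbrev e6 : Fin 3 ⊕ Fin 3 ≃ Fin (3 + 3) := finSumFinEquiv

/-- The alternating form on codes. -/
def bilA (u v : ℕ) : Bool :=
  (List.range 3).foldl (fun acc i => xor acc (xor (u.testBit i && v.testBit (3 + i)) (u.testBit (3 + i) && v.testBit i)))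
    false

/-- The alternating form. -/
noncomputable def b6 : (Fin 3 ⊕ Fin 3 → ZMod 2) →ₗ[ZMod 2] (Fin 3 ⊕ Fin 3 → ZMod 2) →ₗ[ZMod 2] ZMod 2 :=
  LinearMap.mk₂ (ZMod 2) (Cfsg.sympForm 3 (ZMod 2)) Symplectic.sympForm_add_left
    (fun c u v => Symplectic.sympForm_smul_left c u v) Symplectic.sympForm_add_right
    (fun c u v => Symplectic.sympForm_smul_right c u v)

theorem bilA_check : ∀ u v : Fin (2 ^ (3 + 3)),
    Cfsg.sympForm 3 (ZMod 2) (vec e6 u) (vec e6 v) = if bilA u v then 1 else 0 := by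
  decide +kernel

theorem bilA_nondeg : ((List.range (2 ^ (3 + 3))).all fun u => u == 0 || (List.range (2 ^ (3 + 3))).any (bilA u)) = true := by
  decide +kernel

theorem frameA_check : frameOK (3 + 3) bilA ptA codA combA = true := by decide +kernel

theorem ptA_check : ((ptA.all fun u => inE u && !Nat.beq u 0 && comB 0 u &&
    Nat.beq (ptA.getD (codA.idxOf (cOf ptA codA u)) 0) u) &&
    (ptE.all fun u => Nat.beq u 0 || !comB 0 u || ptA.contains u) &&
    ((List.range (2 ^ (3 + 3))).all fun k => Nat.beq k 0 || codA.contains k)) = true := by decide +kernel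

/-- The pattern of a point on the basis. -/
def patA (u : ℕ) : List Bool := (ptP :: baseA).map fun x => comB x u

theorem patA_check : ((baseA.all fun x => Nat.beq x 0 || ptA.contains x) && inE ptP &&
    decide ((ptE.map patA).Nodup) &&
    ptE.all fun u => !(baseA.all fun x => comB x u == comB x ptP) || Nat.beq u ptP || Nat.beq u (mv 0 ptP)) = true := by
  decide +kernel

theorem z2_mul : ∀ x y w : Multiplicative (ZMod 2), x ≠ w → y ≠ 1 → x * y = w := by decide

theorem fixA_check : ((Nat.beq ptF1.length farF1.length && (ptF1.zip farF1).all fun p =>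
      comB 0 p.1 && (Nat.beq p.1 0 || (ptF1.contains p.2 && !comB p.1 p.2))) &&
    (List.range 3510).all fun u => Nat.beq (r1Pt u) u == ptF1.contains u) = true := by decide +kernel

variable {G : Type*} [Group G] [Finite G] {D : Set G} (hC : Cfg22 D) [Gen D] {a d : G} {δ : ℕ → G}
  (h : Std D a d δ)

include hC h

theorem fix_r1_iff {s : MulAut G} (hs : PMap a d δ s sPt) (g : G) :
    (s * MulAut.conj a) g = g ↔ g ∈ fixSub s ⊓ Subgroup.centralizer ({a} : Set G) := by
  have hsa := (sigma_fix hC h hs).1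
  have hR := pmap_r1 hC h hs
  constructor
  · intro hg
    have hfix := fixA_check
    simp only [Bool.and_eq_true, List.all_eq_true, List.mem_range, beq_iff_eq] at hfix
    obtain ⟨⟨hlen, hw⟩, hmem⟩ := hfix
    have hin : ∀ {u}, u < 3510 → (s * MulAut.conj a) (name a d δ u) = name a d δ u → u ∈ ptF1 := by
      intro u hu e
      have e' : r1Pt u = u := name_inj hC h (hR u hu).1 hu ((hR u hu).2.symm.trans e)
      have := hmem u hu
      rw [e', Nat.beq_refl] at this
      exact List.contains_iff_mem.1 this.symm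
    have hfa : (s * MulAut.conj a) a = a := by
      rw [MulAut.mul_apply, MulAut.conj_apply, mul_inv_cancel_right, hsa]
    obtain ⟨u, hu, eu⟩ := exists_name hC h (conj_mem hC.tt g h.mema)
    have huF : u ∈ ptF1 := hin hu (by rw [eu, map_mul, map_mul, map_inv, hg, hfa])
    have hga : g * a * g⁻¹ = a := by
      by_contra hne
      obtain ⟨p, hp, rfl⟩ := mem_zip (Nat.eq_of_beq_eq_true hlen) huF
      obtain ⟨-, hp2⟩ := hw p hp
      rw [Bool.or_eq_true, Bool.and_eq_true, Bool.not_eq_true', List.contains_iff_mem] at hp2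
      rcases hp2 with e0 | ⟨hm2, hn2⟩
      · rw [Nat.eq_of_beq_eq_true e0, name_zero hC h] at eu
        exact hne eu.symm
      · have hm2' := hmem
        have hlt : p.2 < 3510 := by
          by_contra hlt'
          have : ptF1.all (fun t => Nat.blt t 3510) = true := by decide +kernel
          exact hlt' (Nat.le_of_ble_eq_true (List.all_eq_true.1 this _ hm2))
        have hfw : (s * MulAut.conj a) (name a d δ p.2) = name a d δ p.2 := by
          rw [(hR _ hlt).2]
          have := hmem _ hlt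
          rw [List.contains_iff_mem.2 hm2] at this
          rw [Nat.eq_of_beq_eq_true this]
        obtain ⟨v, hv, ev'⟩ := exists_name hC h (conj_mem hC.tt g⁻¹ (name_mem hC h hlt))
        have hvF : v ∈ ptF1 := hin hv (by simp only [ev', map_mul, map_inv, hg, hfw])
        obtain ⟨q, hq, rfl⟩ := mem_zip (Nat.eq_of_beq_eq_true hlen) hvF
        have hc := (commute_iff hC h (by norm_num) hv).2 (hw q hq).1
        rw [name_zero hC h, ev', inv_inv, ← Commute.conj_iff g, ← eu,
          show g * (g⁻¹ * name a d δ p.2 * g) * g⁻¹ = name a d δ p.2 by group] at hc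
        rw [(commute_iff hC h hu hlt).1 hc] at hn2
        exact Bool.noConfusion hn2
    have hcomm : g * a = a * g := mul_inv_eq_iff_eq_mul.1 hga
    refine ⟨?_, Subgroup.mem_centralizer_singleton_iff.2 hcomm⟩
    rw [MulAut.mul_apply, MulAut.conj_apply, ← hcomm, mul_inv_cancel_right] at hg
    exact hg
  · rintro ⟨h1, h2⟩
    rw [MulAut.mul_apply, MulAut.conj_apply, ← Subgroup.mem_centralizer_singleton_iff.1 h2, mul_inv_cancel_right]
    exact h1

/-- The centraliser of the second involution. -/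
theorem exists_iso_sp {s : MulAut G} (hs : PMap a d δ s sPt) :
    Nonempty (↥(fixSub s ⊓ Subgroup.centralizer ({a} : Set G)) ≃* Multiplicative (ZMod 2) × Cfsg.PSp 3 (ZMod 2)) := by
  classical
  set K := stabSet (classE a d δ) with hK
  obtain ⟨-, hanL, hcover, -⟩ := lSub_facts hC h hs
  have hle := stab_le_fix hC h hs
  set C := fixSub s ⊓ Subgroup.centralizer ({a} : Set G) with hCdef
  have haE := a_mem_classE hC h
  have hCK : C ≤ K := fun g hg => mem_stab_of_point hC h hs hg.1 haE (by
    rw [show g * a * g⁻¹ = a from mul_inv_eq_iff_eq_mul.2 (Subgroup.mem_centralizer_singleton_iff.1 hg.2)]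
    exact haE)
  have haK : a ∈ K := by
    obtain ⟨θ', -, hrefl, -⟩ := exists_thetaE hC h hs
    exact (hrefl a haE).1
  have haC : a ∈ C := ⟨(sigma_fix hC h hs).1, Subgroup.mem_centralizer_singleton_iff.2 rfl⟩
  have hck := ptA_check
  simp only [Bool.and_eq_true, List.all_eq_true, List.mem_range, Bool.or_eq_true, List.contains_iff_mem,
    Bool.not_eq_true'] at hck
  obtain ⟨⟨hA1, hA2⟩, hA3⟩ := hck
  have hb6 : ∀ u v, u < 2 ^ (3 + 3) → v < 2 ^ (3 + 3) → b6 (vec e6 u) (vec e6 v) = if bilA u v then 1 else 0 :=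
    fun u v hu hv => bilA_check ⟨u, hu⟩ ⟨v, hv⟩
  have hnd : ∀ v, (∀ w, b6 v w = 0) → v = 0 := by
    intro v hv
    obtain ⟨k, hk, rfl⟩ := vec_surj e6 v
    have := List.all_eq_true.1 bilA_nondeg k (List.mem_range.2 hk)
    rw [Bool.or_eq_true, beq_iff_eq, List.any_eq_true] at this
    rcases this with e0 | ⟨l, hl, e1⟩
    · rw [e0, vec_zero]
    · have := hv (vec e6 l)
      rw [hb6 k l hk (List.mem_range.1 hl), if_pos e1] at this
      exact absurd this one_ne_zero
  obtain ⟨hpt, -, hc, hmem, hmove⟩ := frame_spec hC h e6 frameA_check hb6 hnd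
  have hAE : ∀ {t}, t ∈ ptA → name a d δ t ∈ classE a d δ := fun {t} ht => ⟨t, inE_iff.1 (hA1 t ht).1.1.1, rfl⟩
  have hAC : ∀ {t}, t ∈ ptA → name a d δ t ∈ C := fun {t} ht => by
    refine ⟨sigma_fix_E hC h hs (hAE ht), Subgroup.mem_centralizer_singleton_iff.2 ?_⟩
    have := (commute_iff hC h (by norm_num) (hpt t ht).1).2 (hA1 t ht).1.2
    rw [name_zero hC h] at this
    exact this.eq.symm
  have hCS : C ≤ stabSet (ptSet a d δ ptA) := by
    intro g hg
    refine mem_stabSet_of_le ?_
    rintro _ ⟨t, ht, rfl⟩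
    obtain ⟨u, hu, eu⟩ := (hCK hg _).2 (hAE ht)
    have hul := ptE_lt hC h hu
    have hga : g * a * g⁻¹ = a := mul_inv_eq_iff_eq_mul.2 (Subgroup.mem_centralizer_singleton_iff.1 hg.2)
    rcases hA2 u hu with (e | e) | e
    · exfalso
      rw [Nat.eq_of_beq_eq_true e, name_zero hC h] at eu
      have e' : name a d δ t = name a d δ 0 := by
        rw [name_zero hC h]
        exact mul_left_cancel (mul_right_cancel (eu.symm.trans hga.symm))
      have h0 := (hA1 t ht).1.1.2
      rw [name_inj hC h (hpt t ht).1 (by norm_num) e', Nat.beq_refl] at h0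
      exact Bool.noConfusion h0
    · exfalso
      have h1 := (Commute.conj_iff g).2 ((commute_iff hC h (by norm_num) (hpt t ht).1).2 (hA1 t ht).1.2)
      rw [name_zero hC h, hga, ← eu] at h1
      have h2 : Commute (name a d δ 0) (name a d δ u) := by rw [name_zero hC h]; exact h1
      rw [commute_iff hC h (by norm_num) hul, e] at h2
      exact Bool.noConfusion h2
    · exact ⟨u, e, eu⟩
  obtain ⟨θ, hθ, hθB⟩ := hc.exists_hom
  -- the symplectic part
  let ρ0 : C →* Matrix (Fin 3 ⊕ Fin 3) (Fin 3 ⊕ Fin 3) (ZMod 2) :=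
    (Units.coeHom _).comp (θ.comp (Subgroup.inclusion hCS))
  have hmemSp : ∀ g, ρ0 g ∈ Matrix.symplecticGroup (Fin 3) (ZMod 2) := fun g =>
    (Symplectic.mem_iff_form _).2 fun u v => hθB _ u v
  let ρ : C →* Symplectic.Sp 3 (ZMod 2) := ρ0.codRestrict _ hmemSp
  have hρc : ∀ (g : C), ∀ x ∈ ptSet a d δ ptA,
      ρ g • cvec e6 a d δ ptA codA x = cvec e6 a d δ ptA codA ((g : G) * x * (g : G)⁻¹) :=
    fun g x hx => hθ (Subgroup.inclusion hCS g) x hx
  have hρsurj : Function.Surjective ρ := by
    rw [← MonoidHom.range_eq_top, eq_top_iff, ← Symplectic.closure_transvections, Subgroup.closure_le]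
    rintro g ⟨w, c, hg⟩
    obtain rfl : g = Symplectic.tv w c := Subtype.ext hg
    rcases (by decide : ∀ x : ZMod 2, x = 0 ∨ x = 1) c with rfl | rfl
    · rw [Symplectic.tv_zero]; exact one_mem _
    obtain ⟨k, hk, rfl⟩ := vec_surj e6 w
    rcases hA3 k hk with e0 | e1
    · rw [Nat.eq_of_beq_eq_true e0, vec_zero]
      refine (show Symplectic.tv (0 : Symplectic.Vec 3 (ZMod 2)) 1 = 1 from ?_) ▸ one_mem _
      exact Symplectic.eq_of_smul_eq fun v => by simp [Symplectic.tv_smul]
    obtain ⟨t, ht, etk⟩ : ∃ t ∈ ptA, cOf ptA codA t = k := by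
      have hl : ptA.length = codA.length := by decide +kernel
      have : k ∈ (ptA.zip codA).map Prod.snd := by rw [List.map_snd_zip (le_of_eq hl.symm)]; exact e1
      obtain ⟨q, hq, eq⟩ := List.mem_map.1 this
      have hf := frameA_check
      simp only [frameOK, Bool.and_eq_true, List.all_eq_true] at hf
      exact ⟨q.1, (List.of_mem_zip hq).1, (Nat.eq_of_beq_eq_true (hf.1.1.2 q hq).2).trans eq⟩
    refine ⟨⟨_, hAC ht⟩, Symplectic.eq_of_smul_eq fun v => ?_⟩
    have hv : v ∈ Submodule.span (ZMod 2) (cvec e6 a d δ ptA codA '' ptSet a d δ ptA) := by rw [hc.span]; trivial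
    induction hv using Submodule.span_induction with
    | mem v hv =>
      obtain ⟨x, hx, rfl⟩ := hv
      rw [hρc _ x hx, hmove _ ⟨t, ht, rfl⟩ x hx, Symplectic.tv_smul, cvec_name hC h e6 (hpt t ht).1, etk]
      show _ + Cfsg.sympForm 3 (ZMod 2) _ _ • _ = _
      rw [Symplectic.sympForm_swap (cvec e6 a d δ ptA codA x), one_mul, ZMod.neg_eq_self_mod_two]
    | zero => simp [smul_zero]
    | add u v _ _ hu hv => rw [smul_add, smul_add, hu, hv]
    | smul r u _ hu =>
      rw [Symplectic.smul_eq, Symplectic.smul_eq, Matrix.mulVec_smul, Matrix.mulVec_smul, ← Symplectic.smul_eq,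
        ← Symplectic.smul_eq, hu]
  -- the sign part
  have hidx : (commutator K).index = 2 := by
    have hL : ∀ k : K, k ∈ commutator K ↔ (k : G) ∈ lSub a d δ := fun k =>
      ⟨fun hk => ⟨k, hk, rfl⟩, fun ⟨y, hy, e⟩ => by rwa [← K.subtype_injective e]⟩
    refine Subgroup.index_eq_two_iff.2 ⟨⟨a, haK⟩, fun k => ?_⟩
    rw [hL, hL]
    rcases hcover k k.2 with e | e
    · refine Or.inr ⟨e, fun e' => hanL ?_⟩
      have := mul_mem (inv_mem e) e'
      rwa [Subgroup.coe_mul, inv_mul_cancel_left] at this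
    · refine Or.inl ⟨e, fun e' => hanL ?_⟩
      have := mul_mem (inv_mem e') e
      rwa [inv_mul_cancel_left] at this
  haveI : Fact (Nat.Prime 2) := ⟨Nat.prime_two⟩
  let eq2 : (K ⧸ commutator K) ≃* Multiplicative (ZMod 2) :=
    mulEquivOfPrimeCardEq (p := 2) (by rw [← Subgroup.index_eq_card, hidx]) (by
      rw [Nat.card_congr Multiplicative.toAdd, Nat.card_zmod])
  let χ : C →* Multiplicative (ZMod 2) :=
    eq2.toMonoidHom.comp ((QuotientGroup.mk' (commutator K)).comp (Subgroup.inclusion hCK))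
  have hχ : ∀ g : C, χ g = 1 ↔ (g : G) ∈ lSub a d δ := fun g => by
    show eq2 (QuotientGroup.mk' _ _) = 1 ↔ _
    rw [map_eq_one_iff _ eq2.injective, QuotientGroup.mk'_apply, QuotientGroup.eq_one_iff]
    exact ⟨fun hk => ⟨_, hk, rfl⟩, fun ⟨y, hy, e⟩ => by
      rwa [show Subgroup.inclusion hCK g = y from K.subtype_injective e.symm]⟩
  have hρa : ρ ⟨a, haC⟩ = 1 := by
    refine Symplectic.eq_of_smul_eq fun v => ?_
    have hv : v ∈ Submodule.span (ZMod 2) (cvec e6 a d δ ptA codA '' ptSet a d δ ptA) := by rw [hc.span]; trivial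
    induction hv using Submodule.span_induction with
    | mem v hv =>
      obtain ⟨x, ⟨t, ht, rfl⟩, rfl⟩ := hv
      rw [hρc _ _ ⟨t, ht, rfl⟩, one_smul]
      show cvec e6 a d δ ptA codA (a * name a d δ t * a⁻¹) = _
      rw [← Subgroup.mem_centralizer_singleton_iff.1 (hAC ht).2, mul_inv_cancel_right]
    | zero => simp [smul_zero]
    | add u v _ _ hu hv => rw [smul_add, smul_add, hu, hv]
    | smul r u _ hu =>
      rw [Symplectic.smul_eq, Symplectic.smul_eq, Matrix.mulVec_smul, Matrix.mulVec_smul, ← Symplectic.smul_eq,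
        ← Symplectic.smul_eq, hu]
  have hχa : χ ⟨a, haC⟩ ≠ 1 := fun e => hanL ((hχ _).1 e)
  -- injectivity
  have hinj : Function.Injective (χ.prod ρ) := by
    refine (injective_iff_map_eq_one _).2 fun g hg => ?_
    obtain ⟨hg1, hg2⟩ := Prod.ext_iff.1 hg
    change χ g = 1 at hg1
    change ρ g = 1 at hg2
    have hgC := g.2
    have hfixA : ∀ t, t ∈ ptA → (g : G) * name a d δ t * (g : G)⁻¹ = name a d δ t := by
      intro t ht
      obtain ⟨u, hu, eu⟩ := (hCS hgC _).2 ⟨t, ht, rfl⟩
      have e := hρc g _ ⟨t, ht, rfl⟩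
      rw [hg2, one_smul, ← eu, cvec_name hC h e6 (hpt t ht).1, cvec_name hC h e6 (hpt u hu).1] at e
      have hcd := vec_inj e6 (hpt t ht).2.1 (hpt u hu).2.1 e
      rw [← eu]
      congr 1
      rw [← Nat.eq_of_beq_eq_true (hA1 u hu).2, ← Nat.eq_of_beq_eq_true (hA1 t ht).2, hcd]
    have hp := patA_check
    simp only [Bool.and_eq_true, List.all_eq_true, decide_eq_true_eq, Bool.or_eq_true, Bool.not_eq_true',
      List.contains_iff_mem] at hp
    obtain ⟨⟨⟨hb1, hb2⟩, hnd'⟩, hb3⟩ := hp
    have hPl := ptE_lt hC h (inE_iff.1 hb2)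
    have hbfix : ∀ k : G, k * a * k⁻¹ = a → (∀ t, t ∈ ptA → k * name a d δ t * k⁻¹ = name a d δ t) →
        ∀ x ∈ baseA, x < 3510 ∧ k * name a d δ x * k⁻¹ = name a d δ x := by
      intro k hka hk x hx
      rcases hb1 x hx with e | e
      · rw [Nat.eq_of_beq_eq_true e, name_zero hC h]
        exact ⟨by norm_num, hka⟩
      · exact ⟨(hpt x e).1, hk x e⟩
    have hga : (g : G) * a * (g : G)⁻¹ = a :=
      mul_inv_eq_iff_eq_mul.2 (Subgroup.mem_centralizer_singleton_iff.1 hgC.2)
    -- an element fixing the eight points is trivial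
    have htriv : ∀ k, k ∈ C → (∀ t, t ∈ ptA → k * name a d δ t * k⁻¹ = name a d δ t) →
        k * name a d δ ptP * k⁻¹ = name a d δ ptP → k = 1 := by
      intro k hk hk1 hk2
      refine trivial_of_classE hC h hs fun t ht => ?_
      have htl := ptE_lt hC h ht
      obtain ⟨u, hu, eu⟩ := (hCK hk _).2 (⟨t, ht, rfl⟩ : name a d δ t ∈ classE a d δ)
      have hul := ptE_lt hC h hu
      have hka : k * a * k⁻¹ = a := mul_inv_eq_iff_eq_mul.2 (Subgroup.mem_centralizer_singleton_iff.1 hk.2)
      have hpat : patA u = patA t := by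
        refine List.map_congr_left fun x hx => ?_
        obtain ⟨hx', hxf⟩ : x < 3510 ∧ k * name a d δ x * k⁻¹ = name a d δ x := by
          rcases List.mem_cons.1 hx with rfl | hx
          · exact ⟨hPl, hk2⟩
          · exact hbfix k hka hk1 x hx
        rw [Bool.eq_iff_iff, ← commute_iff hC h hx' hul, ← commute_iff hC h hx' htl, eu]
        conv_lhs => rw [← hxf]
        exact Commute.conj_iff k
      obtain rfl : u = t := List.inj_on_of_nodup_map hnd' hu ht hpat
      exact mul_inv_eq_iff_eq_mul.1 eu.symm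
    obtain ⟨u, hu, eu⟩ := (hCK hgC _).2 (⟨ptP, inE_iff.1 hb2, rfl⟩ : name a d δ ptP ∈ classE a d δ)
    have hul := ptE_lt hC h hu
    have hall : (baseA.all fun x => comB x u == comB x ptP) = true := by
      refine List.all_eq_true.2 fun x hx => ?_
      obtain ⟨hx', hxf⟩ := hbfix g hga hfixA x hx
      rw [beq_iff_eq, Bool.eq_iff_iff, ← commute_iff hC h hx' hul, ← commute_iff hC h hx' hPl, eu]
      conv_lhs => rw [← hxf]
      exact Commute.conj_iff (g : G)
    have h3 := hb3 u hu
    rw [hall] at h3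
    rcases h3 with (e | e) | e
    · exact Bool.noConfusion e
    · rw [Nat.eq_of_beq_eq_true e] at eu
      exact Subtype.ext (htriv g hgC hfixA eu.symm)
    · exfalso
      rw [Nat.eq_of_beq_eq_true e, ← mv_conj hC h (by norm_num) hPl, name_zero hC h] at eu
      have hag : a * (g : G) = 1 := by
        refine htriv _ (C.mul_mem haC hgC) (fun t ht => ?_) ?_
        · rw [show a * (g : G) * name a d δ t * (a * (g : G))⁻¹ =
            a * ((g : G) * name a d δ t * (g : G)⁻¹) * a⁻¹ by group, hfixA t ht,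
            ← Subgroup.mem_centralizer_singleton_iff.1 (hAC ht).2, mul_inv_cancel_right]
        · rw [show a * (g : G) * name a d δ ptP * (a * (g : G))⁻¹ =
            a * ((g : G) * name a d δ ptP * (g : G)⁻¹) * a⁻¹ by group, ← eu, inv_eq hC.tt h.mema,
            show a * (a * name a d δ ptP * a) * a = (a * a) * name a d δ ptP * (a * a) by group,
            sq hC.tt h.mema, one_mul, mul_one]
      have hgeq : (g : G) = a := by rw [eq_inv_of_mul_eq_one_right hag, inv_eq hC.tt h.mema]
      exact hanL (hgeq ▸ (hχ g).1 hg1)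
  have hsurj : Function.Surjective (χ.prod ρ) := by
    rintro ⟨z, m⟩
    obtain ⟨g, rfl⟩ := hρsurj m
    by_cases hz : χ g = z
    · exact ⟨g, Prod.ext hz rfl⟩
    · refine ⟨g * ⟨a, haC⟩, Prod.ext ?_ ?_⟩
      · show χ (g * ⟨a, haC⟩) = z
        rw [map_mul]
        have key : ∀ x y w : Multiplicative (ZMod 2), x ≠ w → y ≠ 1 → x * y = w := z2_mul
        exact key _ _ _ hz hχa
      · show ρ (g * ⟨a, haC⟩) = ρ g
        rw [map_mul, hρa, mul_one]
  have hcen : Subgroup.center (Symplectic.Sp 3 (ZMod 2)) = ⊥ := by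
    rw [← Subgroup.card_eq_one, Symplectic.card_center (ZMod.card 2) (by norm_num)]
    rfl
  exact ⟨(MulEquiv.ofBijective (χ.prod ρ) ⟨hinj, hsurj⟩).trans (MulEquiv.prodCongr (MulEquiv.refl _)
    (QuotientGroup.quotientBot.symm.trans (QuotientGroup.quotientMulEquivOfEq hcen.symm)))⟩

end Cfsg.Agent.TT95.Inv22
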