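import Cfsg.Agent.Lib.Reflections.Basic

/-!
Groups permuting a set of elements whose commuting graph is the orthogonality of vectors act linearly.
-/

set_option autoImplicit false
set_option linter.unusedSectionVars false

namespace Cfsg.Agent.TT95.Inv22

open QuadraticMap Cfsg.Agent.Reflections

variable {G : Type*} [Group G]

/-- The elements permuting a set by conjugation. -/
def stabSet (S : Set G) : Subgroup G where
  carrier := {g | ∀ x, g * x * g⁻¹ ∈ S ↔ x ∈ S}
  one_mem' x := by simp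
  mul_mem' := fun {g k} hg hk x => by
    rw [show g * k * x * (g * k)⁻¹ = g * (k * x * k⁻¹) * g⁻¹ by group]
    exact (hg _).trans (hk x)
  inv_mem' := fun {g} hg x => by
    rw [← hg (g⁻¹ * x * g⁻¹⁻¹), show g * (g⁻¹ * x * g⁻¹⁻¹) * g⁻¹ = x by group]

theorem mem_stabSet {S : Set G} {g : G} : g ∈ stabSet S ↔ ∀ x, g * x * g⁻¹ ∈ S ↔ x ∈ S := Iff.rfl

theorem mem_stabSet_of_le [Finite G] {S : Set G} {g : G} (h : ∀ x ∈ S, g * x * g⁻¹ ∈ S) : g ∈ stabSet S := by
  intro x
  refine ⟨fun hx => ?_, h x⟩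
  have himg : (fun y => g * y * g⁻¹) '' S = S :=
    Set.eq_of_subset_of_ncard_le (by rintro _ ⟨y, hy, rfl⟩; exact h y hy)
      (by rw [Set.ncard_image_of_injective _ fun y z e => mul_left_cancel (mul_right_cancel e)])
      (Set.toFinite S)
  rw [← himg] at hx
  obtain ⟨y, hy, e⟩ := hx
  exact (mul_left_cancel (mul_right_cancel e)) ▸ hy

variable {ι : Type} [Fintype ι] [DecidableEq ι]

/-- The hypotheses: commutation is orthogonality and the vectors span. -/
structure Coord (S : Set G) (c : G → (ι → ZMod 2)) (B : (ι → ZMod 2) →ₗ[ZMod 2] (ι → ZMod 2) →ₗ[ZMod 2] ZMod 2) :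
    Prop where
  comm : ∀ x ∈ S, ∀ y ∈ S, (Commute x y ↔ B (c x) (c y) = 0)
  span : Submodule.span (ZMod 2) (c '' S) = ⊤
  nondeg : ∀ v, (∀ w, B v w = 0) → v = 0

variable {S : Set G} {c : G → (ι → ZMod 2)} {B : (ι → ZMod 2) →ₗ[ZMod 2] (ι → ZMod 2) →ₗ[ZMod 2] ZMod 2}
  (hc : Coord S c B)

omit [Fintype ι] [DecidableEq ι] in
theorem z2_eq {x y : ZMod 2} (h : x = 0 ↔ y = 0) : x = y := by
  revert h
  revert x y
  decide

include hc

theorem Coord.ext {L L' : (ι → ZMod 2) →ₗ[ZMod 2] (ι → ZMod 2)} (h : ∀ x ∈ S, L (c x) = L' (c x)) : L = L' :=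
  LinearMap.ext_on hc.span (by rintro _ ⟨x, hx, rfl⟩; exact h x hx)

theorem Coord.bil {g : G} (hg : g ∈ stabSet S) {x y : G} (hx : x ∈ S) (hy : y ∈ S) :
    B (c (g * x * g⁻¹)) (c (g * y * g⁻¹)) = B (c x) (c y) := by
  refine z2_eq ?_
  rw [← hc.comm _ ((hg x).2 hx) _ ((hg y).2 hy), ← hc.comm x hx y hy]
  exact Commute.conj_iff g

theorem Coord.exists_map {g : G} (hg : g ∈ stabSet S) :
    ∃ L : (ι → ZMod 2) →ₗ[ZMod 2] (ι → ZMod 2), (∀ x ∈ S, L (c x) = c (g * x * g⁻¹)) ∧
      ∀ u v, B (L u) (L v) = B u v := by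
  let p : (↥S →₀ ZMod 2) →ₗ[ZMod 2] (ι → ZMod 2) := Finsupp.linearCombination (ZMod 2) fun x => c x.1
  let q : (↥S →₀ ZMod 2) →ₗ[ZMod 2] (ι → ZMod 2) :=
    Finsupp.linearCombination (ZMod 2) fun x => c (g * x.1 * g⁻¹)
  have hspan : p.range = ⊤ := by
    rw [Finsupp.range_linearCombination, ← hc.span]
    congr 1
    ext v
    simp
  have hker : p.ker ≤ q.ker := by
    intro f hf
    rw [LinearMap.mem_ker] at hf ⊢
    refine hc.nondeg _ fun w => ?_
    have hall : B (q f) = 0 := by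
      refine LinearMap.ext_on hc.span ?_
      rintro _ ⟨z, hz, rfl⟩
      have hy : g⁻¹ * z * g ∈ S := by
        have := (hg (g⁻¹ * z * g)).1
        rw [show g * (g⁻¹ * z * g) * g⁻¹ = z by group] at this
        exact this hz
      have e : (B.flip (c z)).comp q = (B.flip (c (g⁻¹ * z * g))).comp p := by
        refine Finsupp.lhom_ext fun x r => ?_
        simp only [LinearMap.comp_apply, LinearMap.flip_apply, p, q, Finsupp.linearCombination_single, map_smul,
]
        congr 1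
        have := hc.bil hg x.2 hy
        rwa [show g * (g⁻¹ * z * g) * g⁻¹ = z by group] at this
      have := LinearMap.congr_fun e f
      simp only [LinearMap.comp_apply, LinearMap.flip_apply, hf, map_zero] at this
      simpa using this
    rw [hall, LinearMap.zero_apply]
  obtain ⟨L, hL⟩ : ∃ L : (ι → ZMod 2) →ₗ[ZMod 2] (ι → ZMod 2), ∀ f, L (p f) = q f := by
    let e := p.quotKerEquivOfSurjective (LinearMap.range_eq_top.1 hspan)
    refine ⟨(p.ker.liftQ q hker).comp e.symm.toLinearMap, fun f => ?_⟩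
    have e1 : e.symm (p f) = Submodule.Quotient.mk f := by
      rw [LinearEquiv.symm_apply_eq]
      rfl
    show p.ker.liftQ q hker (e.symm (p f)) = q f
    rw [e1]
    rfl
  have hLc : ∀ x ∈ S, L (c x) = c (g * x * g⁻¹) := fun x hx => by
    have := hL (Finsupp.single ⟨x, hx⟩ 1)
    simpa [p, q] using this
  refine ⟨L, hLc, fun u v => ?_⟩
  have : B.compl₁₂ L L = B := by
    refine LinearMap.ext_on hc.span ?_
    rintro _ ⟨x, hx, rfl⟩
    refine LinearMap.ext_on hc.span ?_
    rintro _ ⟨y, hy, rfl⟩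
    show B (L (c x)) (L (c y)) = B (c x) (c y)
    rw [hLc x hx, hLc y hy, hc.bil hg hx hy]
  exact LinearMap.congr_fun (LinearMap.congr_fun this u) v

/-- The linear action as a homomorphism to matrices. -/
theorem Coord.exists_hom : ∃ θ : stabSet S →* Matrix.GeneralLinearGroup ι (ZMod 2),
    (∀ (g : stabSet S), ∀ x ∈ S, Matrix.mulVec ((θ g : Matrix.GeneralLinearGroup ι (ZMod 2)) : Matrix ι ι (ZMod 2))
      (c x) = c ((g : G) * x * (g : G)⁻¹)) ∧
    ∀ (g : stabSet S) u v, B (Matrix.mulVec ((θ g : Matrix.GeneralLinearGroup ι (ZMod 2)) : Matrix ι ι (ZMod 2)) u)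
      (Matrix.mulVec ((θ g : Matrix.GeneralLinearGroup ι (ZMod 2)) : Matrix ι ι (ZMod 2)) v) = B u v := by
  choose L hL hLB using fun g : stabSet S => hc.exists_map g.2
  let φ : stabSet S →* Matrix ι ι (ZMod 2) :=
    { toFun := fun g => LinearMap.toMatrix' (L g)
      map_one' := by
        rw [show L 1 = LinearMap.id from hc.ext fun x hx => by
          rw [hL 1 x hx, LinearMap.id_apply, Subgroup.coe_one, inv_one, one_mul, mul_one],
          LinearMap.toMatrix'_id]
      map_mul' := fun g k => by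
        rw [show L (g * k) = (L g).comp (L k) from hc.ext fun x hx => by
          rw [hL (g * k) x hx, LinearMap.comp_apply, hL k x hx, hL g _ ((k.2 x).2 hx)]
          congr 1
          rw [Subgroup.coe_mul]
          group,
          LinearMap.toMatrix'_comp] }
  have hval : ∀ g v, Matrix.mulVec ((φ.toHomUnits g : Matrix.GeneralLinearGroup ι (ZMod 2)) : Matrix ι ι (ZMod 2)) v =
      L g v := fun g v => LinearMap.toMatrix'_mulVec (L g) v
  exact ⟨φ.toHomUnits, fun g x hx => by rw [hval, hL g x hx], fun g u v => by rw [hval, hval, hLB]⟩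

variable {Q : QuadraticForm (ZMod 2) (ι → ZMod 2)}

/-- The action by isometries. -/
theorem Coord.exists_isom (hB : B = Q.polarBilin) (hQ : ∀ x ∈ S, Q (c x) = 1) :
    ∃ θ : stabSet S →* ↥(Cfsg.isometryGroup (ZMod 2) ⇑Q),
      ∀ (g : stabSet S), ∀ x ∈ S, Reflections.act (θ g) (c x) = c ((g : G) * x * (g : G)⁻¹) := by
  obtain ⟨θ, hθ, hθB⟩ := hc.exists_hom
  have hmem : ∀ g, θ g ∈ Cfsg.isometryGroup (ZMod 2) ⇑Q := by
    intro g
    refine mem_isometryGroup Q _ fun v => ?_
    have hv : v ∈ Submodule.span (ZMod 2) (c '' S) := by rw [hc.span]; trivial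
    induction hv using Submodule.span_induction with
    | mem v hv =>
      obtain ⟨x, hx, rfl⟩ := hv
      rw [hθ g x hx, hQ x hx, hQ _ ((g.2 x).2 hx)]
    | zero => rw [Matrix.mulVec_zero]
    | add u v _ _ hu hv =>
      have e := hθB g u v
      rw [hB] at e
      rw [Matrix.mulVec_add, map_add', map_add', hu, hv]
      exact congrArg _ e
    | smul r u _ hu => rw [Matrix.mulVec_smul, map_smul', map_smul', hu]
  exact ⟨θ.codRestrict _ hmem, fun g x hx => hθ g x hx⟩

/-- Two isometries agreeing on the set are equal. -/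
theorem Coord.isom_eq {φ ψ : ↥(Cfsg.isometryGroup (ZMod 2) ⇑Q)}
    (h : ∀ x ∈ S, Reflections.act φ (c x) = Reflections.act ψ (c x)) : φ = ψ := by
  refine isom_ext fun v => ?_
  have := hc.ext (L := Matrix.mulVecLin (mat φ)) (L' := Matrix.mulVecLin (mat ψ)) h
  exact LinearMap.congr_fun this v

/-- A member acts as a reflection. -/
theorem Coord.refl_eq (hB : B = Q.polarBilin) (hQ : ∀ x ∈ S, Q (c x) = 1)
    {θ : stabSet S →* ↥(Cfsg.isometryGroup (ZMod 2) ⇑Q)}
    (hθ : ∀ (g : stabSet S), ∀ x ∈ S, Reflections.act (θ g) (c x) = c ((g : G) * x * (g : G)⁻¹))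
    {x : G} (hx : x ∈ S) (hxs : x ∈ stabSet S) (hmove : ∀ y ∈ S, c (x * y * x⁻¹) = c y + B (c x) (c y) • c x) :
    θ ⟨x, hxs⟩ = refl Q (c x) := by
  refine hc.isom_eq fun y hy => ?_
  have hQ0 : Q (c x) ≠ 0 := by rw [hQ x hx]; exact one_ne_zero
  rw [hθ _ y hy, hmove y hy, act_refl hQ0, hQ x hx, inv_one, one_mul, hB]
  funext i
  simp [sub_eq_add_neg, ZMod.neg_eq_self_mod_two]

end Cfsg.Agent.TT95.Inv22
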