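import Cfsg.Agent.TT95.Inv22.Basic
import Cfsg.Agent.TT95.Inv22.Linear
import Cfsg.Agent.Lib.OrthCohom.Basic

/-!
Type M(22): lists of points with vectors, checked to carry an orthogonality.
-/

set_option autoImplicit false
set_option linter.unusedSectionVars false

namespace Cfsg.Agent.TT95.Inv22

open Cfsg.Agent.TT95.Uni22 Cfsg.Agent.TT95.Calc

/-- The code of a listed point; zero for a point not listed. -/
def cOf (L cod : List ℕ) (u : ℕ) : ℕ := cod.getD (L.idxOf u) 0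

/-- One ordered pair. -/
def pairOK (bil : ℕ → ℕ → Bool) (L cod : List ℕ) (y cx cy : ℕ) : ℕ → Bool := fun z =>
  cond (bil cx cy) (!Nat.beq z y && Nat.beq (cOf L cod z) (Nat.xor cy cx)) (Nat.beq z y)

/-- The certificate of a frame. -/
def frameOK (n : ℕ) (bil : ℕ → ℕ → Bool) (L cod : List ℕ) (comb : List (List ℕ)) : Bool :=
  Nat.beq L.length cod.length &&
  ((L.zip cod).all fun p => Nat.blt p.1 3510 && Nat.blt p.2 (2 ^ n) && Nat.blt 0 p.2 &&
    Nat.beq (cOf L cod p.1) p.2) &&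
  ((L.zip cod).all fun p => (L.zip cod).all fun q => pairOK bil L cod q.1 p.2 q.2 (mv p.1 q.1)) &&
  ((List.range n).all fun j => (comb.getD j []).all (fun u => L.contains u) &&
    Nat.beq ((comb.getD j []).foldr (fun u k => Nat.xor (cOf L cod u) k) 0) (2 ^ j))

theorem mem_zip {L cod : List ℕ} (hl : L.length = cod.length) {u : ℕ} (hu : u ∈ L) :
    ∃ p ∈ L.zip cod, p.1 = u := by
  have : u ∈ (L.zip cod).map Prod.fst := by rw [List.map_fst_zip (le_of_eq hl)]; exact hu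
  obtain ⟨p, hp, rfl⟩ := List.mem_map.1 this
  exact ⟨p, hp, rfl⟩

theorem cOf_ne_zero {L cod : List ℕ} (hl : L.length = cod.length) {u : ℕ} (h : cOf L cod u ≠ 0) : u ∈ L := by
  by_contra hu
  refine h ?_
  rw [cOf, List.getD_eq_default]
  rw [List.idxOf_eq_length hu, hl]

variable {G : Type*} [Group G] [Finite G] {D : Set G} (hC : Cfg22 D) [Gen D] {a d : G} {δ : ℕ → G}
  (h : Std D a d δ)

/-- The set of the transpositions of listed points. -/
def ptSet (a d : G) (δ : ℕ → G) (L : List ℕ) : Set G := name a d δ '' {t | t ∈ L}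

/-- The number of a transposition. -/
noncomputable def ptIdx (a d : G) (δ : ℕ → G) (x : G) : ℕ := Function.invFunOn (name a d δ) {t | t < 3510} x

variable {ι : Type} [Fintype ι] [DecidableEq ι] {n : ℕ} (e : ι ≃ Fin n)

/-- The vector of a transposition. -/
noncomputable def cvec (a d : G) (δ : ℕ → G) (L cod : List ℕ) (x : G) : ι → ZMod 2 :=
  OrthCohom.vec e (cOf L cod (ptIdx a d δ x))

include hC h

theorem ptIdx_name {t : ℕ} (ht : t < 3510) : ptIdx a d δ (name a d δ t) = t := by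
  have hex : ∃ u ∈ {t | t < 3510}, name a d δ u = name a d δ t := ⟨t, ht, rfl⟩
  exact name_inj hC h (Function.invFunOn_mem hex) ht (Function.invFunOn_eq hex)

theorem cvec_name {L cod : List ℕ} {t : ℕ} (ht : t < 3510) :
    cvec e a d δ L cod (name a d δ t) = OrthCohom.vec e (cOf L cod t) := by
  rw [cvec, ptIdx_name hC h ht]

theorem mv_conj {t u : ℕ} (ht : t < 3510) (hu : u < 3510) :
    name a d δ t * name a d δ u * (name a d δ t)⁻¹ = name a d δ (mv t u) :=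
  (pmap_name hC h ht u hu).2

theorem frame_spec {bil : ℕ → ℕ → Bool} {L cod : List ℕ} {comb : List (List ℕ)}
    (hok : frameOK n bil L cod comb = true)
    {B : (ι → ZMod 2) →ₗ[ZMod 2] (ι → ZMod 2) →ₗ[ZMod 2] ZMod 2}
    (hB : ∀ u v, u < 2 ^ n → v < 2 ^ n → B (OrthCohom.vec e u) (OrthCohom.vec e v) = if bil u v then 1 else 0)
    (hnd : ∀ v, (∀ w, B v w = 0) → v = 0) :
    (∀ t ∈ L, t < 3510 ∧ cOf L cod t < 2 ^ n ∧ cOf L cod t ≠ 0) ∧
    (∀ t ∈ L, ∀ u ∈ L, mv t u ∈ L) ∧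
    Coord (ptSet a d δ L) (cvec e a d δ L cod) B ∧
    (∀ t ∈ L, name a d δ t ∈ stabSet (ptSet a d δ L)) ∧
    ∀ x ∈ ptSet a d δ L, ∀ y ∈ ptSet a d δ L, cvec e a d δ L cod (x * y * x⁻¹) =
      cvec e a d δ L cod y + B (cvec e a d δ L cod x) (cvec e a d δ L cod y) • cvec e a d δ L cod x := by
  simp only [frameOK, Bool.and_eq_true, List.all_eq_true, Nat.blt_eq, List.mem_range,
    List.contains_iff_mem] at hok
  obtain ⟨⟨⟨hlen, hpts⟩, hpair⟩, hcomb⟩ := hok
  have hl := Nat.eq_of_beq_eq_true hlen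
  have hlt : ∀ t ∈ L, t < 3510 ∧ cOf L cod t < 2 ^ n ∧ cOf L cod t ≠ 0 := by
    intro t ht
    obtain ⟨p, hp, rfl⟩ := mem_zip hl ht
    obtain ⟨⟨⟨h1, h2⟩, h3⟩, h4⟩ := hpts p hp
    rw [Nat.eq_of_beq_eq_true h4]
    exact ⟨h1, h2, by omega⟩
  have hpr : ∀ t ∈ L, ∀ u ∈ L, (bil (cOf L cod t) (cOf L cod u) = false ∧ mv t u = u) ∨
      (bil (cOf L cod t) (cOf L cod u) = true ∧ mv t u ≠ u ∧ mv t u ∈ L ∧
        cOf L cod (mv t u) = Nat.xor (cOf L cod u) (cOf L cod t)) := by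
    intro t ht u hu
    obtain ⟨p, hp, rfl⟩ := mem_zip hl ht
    obtain ⟨q, hq, rfl⟩ := mem_zip hl hu
    rw [Nat.eq_of_beq_eq_true (hpts p hp).2, Nat.eq_of_beq_eq_true (hpts q hq).2]
    have h1 := hpair p hp q hq
    unfold pairOK at h1
    cases hb : bil p.2 q.2
    · rw [hb, cond_false] at h1
      exact Or.inl ⟨rfl, Nat.eq_of_beq_eq_true h1⟩
    · rw [hb, cond_true, Bool.and_eq_true, Bool.not_eq_true'] at h1
      obtain ⟨h1, h2⟩ := h1
      have hne : mv p.1 q.1 ≠ q.1 := fun e => by rw [e, Nat.beq_refl] at h1; exact Bool.noConfusion h1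
      refine Or.inr ⟨rfl, hne, ?_, Nat.eq_of_beq_eq_true h2⟩
      refine cOf_ne_zero hl fun e0 => ?_
      have hx : Nat.xor q.2 p.2 = 0 := (Nat.eq_of_beq_eq_true h2).symm.trans e0
      have heq : q.2 = p.2 := Nat.xor_eq_zero_iff.1 hx
      rw [← heq] at hb
      have hq2 := hpts q hq
      have hcomm : Commute (name a d δ q.1) (name a d δ q.1) := Commute.refl _
      have := hpair q hq q hq
      unfold pairOK at this
      rw [hb, cond_true, Bool.and_eq_true, Bool.not_eq_true'] at this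
      rw [show mv q.1 q.1 = q.1 from (commute_mv hC h hq2.1.1.1 hq2.1.1.1).1 hcomm, Nat.beq_refl] at this
      exact Bool.noConfusion this.1
  have hmv : ∀ t ∈ L, ∀ u ∈ L, mv t u ∈ L := fun t ht u hu => by
    rcases hpr t ht u hu with ⟨-, e1⟩ | ⟨-, -, e1, -⟩
    exacts [e1.symm ▸ hu, e1]
  refine ⟨hlt, hmv, ⟨?_, ?_, hnd⟩, fun t ht => ?_, ?_⟩
  · rintro _ ⟨t, ht, rfl⟩ _ ⟨u, hu, rfl⟩
    rw [cvec_name hC h e (hlt t ht).1, cvec_name hC h e (hlt u hu).1, hB _ _ (hlt t ht).2.1 (hlt u hu).2.1,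
      commute_mv hC h (hlt t ht).1 (hlt u hu).1]
    rcases hpr t ht u hu with ⟨eb, e1⟩ | ⟨eb, e1, -⟩
    · simp [eb, e1]
    · simp [eb, e1]
  · rw [eq_top_iff]
    intro v _
    obtain ⟨k, hk, rfl⟩ := OrthCohom.vec_surj e v
    rw [OrthCohom.vec_eq_sum e k]
    refine Submodule.sum_mem _ fun j _ => Submodule.smul_mem _ _ ?_
    obtain ⟨hm, hx⟩ := hcomb j j.2
    rw [← Nat.eq_of_beq_eq_true hx]
    clear hx
    generalize hl' : comb.getD (↑j) [] = l at hm ⊢
    clear hl'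
    induction l with
    | nil => rw [List.foldr_nil, OrthCohom.vec_zero]; exact Submodule.zero_mem _
    | cons u l ih =>
      rw [List.foldr_cons, show ∀ x y : ℕ, Nat.xor x y = x ^^^ y from fun _ _ => rfl, OrthCohom.vec_xor]
      refine Submodule.add_mem _ (Submodule.subset_span ⟨name a d δ u, ⟨u, hm u List.mem_cons_self, rfl⟩, ?_⟩)
        (ih fun w hw => hm w (List.mem_cons_of_mem _ hw))
      exact cvec_name hC h e (hlt u (hm u List.mem_cons_self)).1
  · refine mem_stabSet_of_le ?_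
    rintro _ ⟨u, hu, rfl⟩
    exact ⟨mv t u, hmv t ht u hu, (mv_conj hC h (hlt t ht).1 (hlt u hu).1).symm⟩
  · rintro _ ⟨t, ht, rfl⟩ _ ⟨u, hu, rfl⟩
    rw [mv_conj hC h (hlt t ht).1 (hlt u hu).1, cvec_name hC h e (hlt t ht).1, cvec_name hC h e (hlt u hu).1,
      cvec_name hC h e (hlt _ (hmv t ht u hu)).1, hB _ _ (hlt t ht).2.1 (hlt u hu).2.1]
    rcases hpr t ht u hu with ⟨eb, e1⟩ | ⟨eb, -, -, e1⟩
    · simp [eb, e1]
    · rw [e1, show ∀ x y : ℕ, Nat.xor x y = x ^^^ y from fun _ _ => rfl, OrthCohom.vec_xor, eb, if_pos rfl,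
        one_smul]

end Cfsg.Agent.TT95.Inv22
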