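import Cfsg.Agent.TT95.Inv22.Sigma

/-!
Type M(22): the three involutions of the outer coset.
-/

set_option autoImplicit false
set_option linter.unusedSectionVars false

namespace Cfsg.Agent.TT95.Inv22

open Cfsg.Agent.TT95.Uni22 Cfsg.Agent.TT95.Calc

theorem aPts_lt : ∀ t ∈ [0, ptB], t < 3510 := by decide +kernel

variable {G : Type*} [Group G] [Finite G] {D : Set G} (hC : Cfg22 D) [Gen D] {a d : G} {δ : ℕ → G}
  (h : Std D a d δ)

/-- The second commuting transposition. -/
def bEl (a d : G) (δ : ℕ → G) : G := name a d δ ptB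

include hC h

theorem bEl_spec : bEl a d δ ∈ D ∧ a ≠ bEl a d δ ∧ Commute a (bEl a d δ) := by
  obtain ⟨-, -, hlt, hne, hc⟩ := sPt_fix
  refine ⟨name_mem hC h hlt, fun e => hne ?_, ?_⟩
  · exact (name_inj hC h (by norm_num) hlt (by rw [name_zero hC h]; exact e)).symm
  · have := (commute_iff hC h (by norm_num) hlt).2 hc
    rwa [name_zero hC h] at this

theorem sigma_fix {s : MulAut G} (hs : PMap a d δ s sPt) : s a = a ∧ s (bEl a d δ) = bEl a d δ := by
  obtain ⟨h0, hb, hlt, -⟩ := sPt_fix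
  have e0 := (hs 0 (by norm_num)).2
  rw [h0, name_zero hC h] at e0
  have e1 := (hs ptB hlt).2
  rw [hb] at e1
  exact ⟨e0, e1⟩

theorem pmap_r1 {s : MulAut G} (hs : PMap a d δ s sPt) : PMap a d δ (s * MulAut.conj a) r1Pt := by
  have := hs.mul (pmap_name hC h (t := 0) (by norm_num))
  rwa [name_zero hC h] at this

theorem pmap_r2 {s : MulAut G} (hs : PMap a d δ s sPt) :
    PMap a d δ (s * MulAut.conj (a * bEl a d δ)) r2Pt := by
  have := hs.mul (pmap_prod hC h (l := [0, ptB]) aPts_lt)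
  rwa [show ([0, ptB].map (name a d δ)).prod = a * bEl a d δ by simp [bEl, name_zero hC h]] at this

theorem twist_sq {s : MulAut G} (hs : s * s = 1) {x : G} (hx : s x = x) (hx2 : x * x = 1) :
    (s * MulAut.conj x) * (s * MulAut.conj x) = 1 := by
  have e : MulAut.conj x * s = s * MulAut.conj x := MulEquiv.ext fun y => by
    simp only [MulAut.mul_apply, MulAut.conj_apply, map_mul, map_inv, hx]
  rw [show s * MulAut.conj x * (s * MulAut.conj x) = s * (MulAut.conj x * s) * MulAut.conj x by group, e,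
    show s * (s * MulAut.conj x) * MulAut.conj x = (s * s) * (MulAut.conj x * MulAut.conj x) by group, hs,
    ← map_mul, hx2, map_one, one_mul]

theorem r1_sq {s : MulAut G} (hs : PMap a d δ s sPt) (h2 : s * s = 1) :
    (s * MulAut.conj a) * (s * MulAut.conj a) = 1 :=
  twist_sq hC h h2 (sigma_fix hC h hs).1 (sq h.tt h.mema)

theorem r2_sq {s : MulAut G} (hs : PMap a d δ s sPt) (h2 : s * s = 1) :
    (s * MulAut.conj (a * bEl a d δ)) * (s * MulAut.conj (a * bEl a d δ)) = 1 := by
  obtain ⟨hb, -, hc⟩ := bEl_spec hC h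
  obtain ⟨e0, e1⟩ := sigma_fix hC h hs
  refine twist_sq hC h h2 (by rw [map_mul, e0, e1]) ?_
  rw [show a * bEl a d δ * (a * bEl a d δ) = a * (bEl a d δ * a) * bEl a d δ by group, ← hc.eq,
    show a * (a * bEl a d δ) * bEl a d δ = (a * a) * (bEl a d δ * bEl a d δ) by group, sq h.tt h.mema,
    sq h.tt hb, one_mul]

theorem pmap_invol {α : MulAut G} {f : ℕ → ℕ} (hf : PMap a d δ α f) (h2 : α * α = 1) {t : ℕ} (ht : t < 3510) :
    f (f t) = t := by
  have := hf.mul hf
  rw [h2] at this
  exact (PMap.unique hC h this pmap_one ht)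

end Cfsg.Agent.TT95.Inv22
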