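import Cfsg.Agent.TT95.Inv22.FixS
import Cfsg.Agent.TT95.Inv22.Targets
import Cfsg.Agent.TT95.Inv22.Frames
import Cfsg.Agent.Lib.OrthCohom.Plus

/-!
Type M(22): the three classes of transpositions fixed by the outer involution; the stabiliser of one of
them is the orthogonal group of plus type in dimension eight.
-/

set_option autoImplicit false
set_option linter.unusedSectionVars false

namespace Cfsg.Agent.TT95.Inv22

open Cfsg.Agent.TT95.Uni22 Cfsg.Agent.TT95.Calc QuadraticMap Cfsg.Agent.OrthCohom Cfsg.Agent.Reflections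

/-- The coordinates. -/
abbrev e8 : Fin 4 ⊕ Fin 4 ≃ Fin (4 + 4) := finSumFinEquiv

/-- The form. -/
abbrev q8 : QuadraticForm (ZMod 2) (Fin 4 ⊕ Fin 4 → ZMod 2) := qPlus 4 (ZMod 2)

/-- The orthogonal group. -/
abbrev O8p : Type := ↥(Cfsg.isometryGroup (ZMod 2) ⇑q8)

/-- A point of the first class. -/
def inE (u : ℕ) : Bool := ptE.contains u

theorem frameE_check : frameOK (4 + 4) (bilB (qmPlus 4)) ptE codE combE = true := by decide +kernel

theorem codE_check : ((ptE.all fun u => qmPlus 4 (cOf ptE codE u) &&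
    Nat.beq (ptE.getD (codE.idxOf (cOf ptE codE u)) 0) u && Nat.beq (sPt u) u) &&
    ((List.range 256).all fun k => !qmPlus 4 k || codE.contains k) && ptE.contains 0 &&
    ptE.contains ptB) = true := by decide +kernel

theorem classes_check : ((List.range 3510).all fun u =>
    !Nat.beq (sPt u) u || inE u || inE (mv ptD2 u) || inE (mv ptD3 u)) = true := by decide +kernel

/-- No commutation with the points of the first class. -/
def noComm (u : ℕ) : Bool := ptE.all fun x => !comB x u

theorem cross_check : (ptE.all fun y => noComm (mv ptD2 y) && noComm (mv ptD3 y)) = true := by decide +kernel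

theorem link_check : (Nat.beq ptE.length linkE.length &&
    (ptE.zip linkE).all fun p => inE p.2 && comB 0 p.2 && comB p.2 p.1) = true := by decide +kernel

theorem moves_check : (Nat.blt ptD2 3510 && Nat.blt ptD3 3510 && Nat.beq (sPt ptD2) ptD2 && Nat.beq (sPt ptD3) ptD3 &&
    !inE (mv ptD2 0) && !inE (mv ptD3 0) && !inE (mv ptD2 (mv ptD3 0)) &&
    ptE.all fun t => inE (mvs [ptD3, ptD2, t, ptD2] 0) && inE (mvs [ptD2, ptD3, t, ptD3] 0)) = true := by
  decide +kernel

theorem inE_iff {u : ℕ} : inE u = true ↔ u ∈ ptE := List.contains_iff_mem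

variable {G : Type*} [Group G] [Finite G] {D : Set G} (hC : Cfg22 D) [Gen D] {a d : G} {δ : ℕ → G}
  (h : Std D a d δ)

/-- The elements fixed by an automorphism. -/
def fixSub (α : MulAut G) : Subgroup G where
  carrier := {g | α g = g}
  one_mem' := map_one α
  mul_mem' := fun {x y} (hx : α x = x) (hy : α y = y) => show α (x * y) = x * y by rw [map_mul, hx, hy]
  inv_mem' := fun {x} (hx : α x = x) => show α x⁻¹ = x⁻¹ by rw [map_inv, hx]

theorem mem_fixSub {α : MulAut G} {g : G} : g ∈ fixSub α ↔ α g = g := Iff.rfl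

/-- The first class. -/
def classE (a d : G) (δ : ℕ → G) : Set G := ptSet a d δ ptE

include hC h

theorem ptE_lt {t : ℕ} (ht : t ∈ ptE) : t < 3510 :=
  ((frame_spec hC h e8 frameE_check (B := q8.polarBilin)
    (fun _ _ hu hv => coded8.polar_vec hu hv) (fun v => (nondegenerate_of_table coded8 nondeg8_ok).1 v)).1 t ht).1

theorem a_mem_classE : a ∈ classE a d δ := by
  have hc := codE_check
  simp only [Bool.and_eq_true, List.contains_iff_mem] at hc
  exact ⟨0, hc.1.2, name_zero hC h⟩

/-- The stabiliser of the first class is the orthogonal group. -/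
theorem exists_thetaE {s : MulAut G} (hs : PMap a d δ s sPt) :
    ∃ θ : stabSet (classE a d δ) ≃* O8p,
      (∀ (g : stabSet (classE a d δ)), ∀ x ∈ classE a d δ,
        Reflections.act (θ g) (cvec e8 a d δ ptE codE x) = cvec e8 a d δ ptE codE ((g : G) * x * (g : G)⁻¹)) ∧
      (∀ x ∈ classE a d δ, ∃ hx : x ∈ stabSet (classE a d δ), q8 (cvec e8 a d δ ptE codE x) ≠ 0 ∧
        θ ⟨x, hx⟩ = refl q8 (cvec e8 a d δ ptE codE x)) ∧
      ∀ v, q8 v ≠ 0 → ∃ x ∈ classE a d δ, cvec e8 a d δ ptE codE x = v := by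
  obtain ⟨hpt, -, hc, hmem, hmove⟩ := frame_spec hC h e8 frameE_check (B := q8.polarBilin)
    (fun _ _ hu hv => coded8.polar_vec hu hv) (fun v => (nondegenerate_of_table coded8 nondeg8_ok).1 v)
  have hck := codE_check
  simp only [Bool.and_eq_true, List.all_eq_true, List.mem_range, Bool.or_eq_true, List.contains_iff_mem] at hck
  obtain ⟨⟨⟨h1, h2⟩, -⟩, -⟩ := hck
  have hQ : ∀ x ∈ classE a d δ, q8 (cvec e8 a d δ ptE codE x) = 1 := by
    rintro _ ⟨t, ht, rfl⟩
    rw [cvec_name hC h e8 (hpt t ht).1, coded8.q_vec (hpt t ht).2.1, (h1 t ht).1.1, if_pos rfl]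
  obtain ⟨θ, hθ⟩ := hc.exists_isom rfl hQ
  have hrefl : ∀ x ∈ classE a d δ, ∃ hx : x ∈ stabSet (classE a d δ), q8 (cvec e8 a d δ ptE codE x) ≠ 0 ∧
      θ ⟨x, hx⟩ = refl q8 (cvec e8 a d δ ptE codE x) := by
    intro x hx
    have hxs : x ∈ stabSet (classE a d δ) := by
      obtain ⟨t, ht, rfl⟩ := hx
      exact hmem t ht
    exact ⟨hxs, by rw [hQ x hx]; exact one_ne_zero, hc.refl_eq rfl hQ hθ hx hxs (hmove x hx)⟩
  have honto : ∀ v, q8 v ≠ 0 → ∃ x ∈ classE a d δ, cvec e8 a d δ ptE codE x = v := by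
    intro v hv
    obtain ⟨k, hk, rfl⟩ := vec_surj e8 v
    rw [coded8.q_vec hk] at hv
    have hq : qmPlus 4 k = true := by
      by_contra hh
      exact hv (if_neg hh)
    have hm : k ∈ codE := by
      rcases h2 k hk with e | e
      · rw [hq] at e; exact Bool.noConfusion e
      · exact e
    obtain ⟨p, hp, hpk⟩ : ∃ p ∈ ptE.zip codE, p.2 = k := by
      have hl : ptE.length = codE.length := by decide +kernel
      have : k ∈ (ptE.zip codE).map Prod.snd := by rw [List.map_snd_zip (le_of_eq hl.symm)]; exact hm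
      obtain ⟨p, hp, e⟩ := List.mem_map.1 this
      exact ⟨p, hp, e⟩
    have hf := frameE_check
    simp only [frameOK, Bool.and_eq_true, List.all_eq_true] at hf
    refine ⟨name a d δ p.1, ⟨p.1, (List.of_mem_zip hp).1, rfl⟩, ?_⟩
    rw [cvec_name hC h e8 (hpt _ (List.of_mem_zip hp).1).1, Nat.eq_of_beq_eq_true (hf.1.1.2 p hp).2, hpk]
  have hinj : Function.Injective θ := by
    refine (injective_iff_map_eq_one _).2 fun g hg => Subtype.ext (trivial_of_classE hC h hs fun t ht => ?_)
    have hx : name a d δ t ∈ classE a d δ := ⟨t, ht, rfl⟩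
    have e := hθ g _ hx
    rw [hg, Reflections.act_one] at e
    obtain ⟨u, hu, eu⟩ := (g.2 _).2 hx
    rw [← eu, cvec_name hC h e8 (hpt t ht).1, cvec_name hC h e8 (hpt u hu).1] at e
    have hcod := vec_inj e8 (hpt t ht).2.1 (hpt u hu).2.1 e
    have htu : t = u := by
      rw [← Nat.eq_of_beq_eq_true (h1 t ht).1.2, ← Nat.eq_of_beq_eq_true (h1 u hu).1.2, hcod]
    refine mul_inv_eq_iff_eq_mul.1 ?_
    rw [← eu, htu]
  have hsurj : Function.Surjective θ := by
    rw [← MonoidHom.range_eq_top, eq_top_iff, ← reflGroup_plus8, reflGroup, Subgroup.closure_le]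
    intro g hg
    obtain ⟨v, hv, rfl⟩ := exists_of_mem_reflSet hg
    obtain ⟨x, hx, rfl⟩ := honto v hv
    obtain ⟨hxs, -, e⟩ := hrefl x hx
    exact ⟨⟨x, hxs⟩, e⟩
  exact ⟨MulEquiv.ofBijective θ ⟨hinj, hsurj⟩, hθ, hrefl, honto⟩

theorem sigma_fix_E {s : MulAut G} (hs : PMap a d δ s sPt) {x : G} (hx : x ∈ classE a d δ) : s x = x := by
  obtain ⟨t, ht, rfl⟩ := hx
  have hck := codE_check
  simp only [Bool.and_eq_true, List.all_eq_true] at hck
  rw [(hs t (ptE_lt hC h ht)).2, Nat.eq_of_beq_eq_true (hck.1.1.1 t ht).2]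

/-- The stabiliser of the class lies in the centraliser. -/
theorem stab_le_fix {s : MulAut G} (hs : PMap a d δ s sPt) : stabSet (classE a d δ) ≤ fixSub s := by
  intro g hg
  have : g⁻¹ * s g = 1 := trivial_of_classE hC h hs fun t ht => by
    have hx : name a d δ t ∈ classE a d δ := ⟨t, ht, rfl⟩
    have e := sigma_fix_E hC h hs ((hg _).2 hx)
    rw [map_mul, map_mul, map_inv, sigma_fix_E hC h hs hx] at e
    refine mul_inv_eq_iff_eq_mul.1 ?_
    rw [show g⁻¹ * s g * name a d δ t * (g⁻¹ * s g)⁻¹ = g⁻¹ * (s g * name a d δ t * (s g)⁻¹) * g by group, e]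
    group
  exact (inv_mul_eq_one.1 this).symm

/-- Members of the centraliser keeping one point of the class in it keep the class. -/
theorem mem_stab_of_point {s : MulAut G} (hs : PMap a d δ s sPt) {g : G} (hg : s g = g) {x : G}
    (hx : x ∈ classE a d δ) (hgx : g * x * g⁻¹ ∈ classE a d δ) : g ∈ stabSet (classE a d δ) := by
  have hl := link_check
  simp only [Bool.and_eq_true, List.all_eq_true] at hl
  have hstep : ∀ y ∈ classE a d δ, ∀ z ∈ classE a d δ, Commute y z → g * y * g⁻¹ ∈ classE a d δ →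
      g * z * g⁻¹ ∈ classE a d δ := by
    rintro _ ⟨t, ht, rfl⟩ _ ⟨u, hu, rfl⟩ hc ⟨t', ht', et⟩
    obtain ⟨u', hu', eu⟩ := exists_name hC h (conj_mem hC.tt g (name_mem hC h (ptE_lt hC h hu)))
    have hfix : sPt u' = u' := by
      refine name_inj hC h (sPt_lt hu') hu' ?_
      rw [← (hs u' hu').2, eu, map_mul, map_mul, map_inv, hg, sigma_fix_E hC h hs ⟨u, hu, rfl⟩]
    have hcom : Commute (name a d δ t') (name a d δ u') := by
      rw [et, eu]
      exact (Commute.conj_iff g).2 hc
    have hcb := (commute_iff hC h (ptE_lt hC h ht') hu').1 hcom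
    have hcl := List.all_eq_true.1 classes_check u' (List.mem_range.2 hu')
    rw [hfix, Nat.beq_refl] at hcl
    simp only [Bool.not_true, Bool.false_or, Bool.or_eq_true] at hcl
    have hcross : ∀ (p : ℕ), p < 3510 → inE (mv p u') = true →
        (∀ y ∈ ptE, noComm (mv p y) = true) → False := by
      intro p hp hin hno
      have h3 := hno _ (inE_iff.1 hin)
      have hpp : mv p (mv p u') = u' := by
        have hm := (pmap_name hC h hp).mul (pmap_name hC h hp)
        rw [← map_mul, sq hC.tt (name_mem hC h hp), map_one] at hm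
        exact PMap.unique hC h hm pmap_one hu'
      rw [hpp] at h3
      have := List.all_eq_true.1 h3 t' ht'
      rw [hcb] at this
      exact Bool.noConfusion this
    have hm := moves_check
    simp only [Bool.and_eq_true, Nat.blt_eq] at hm
    have hcr := cross_check
    simp only [List.all_eq_true, Bool.and_eq_true] at hcr
    refine ⟨u', ?_, eu⟩
    rcases hcl with (e | e) | e
    · exact inE_iff.1 e
    · exact (hcross _ hm.1.1.1.1.1.1.1 e fun y hy => (hcr y hy).1).elim
    · exact (hcross _ hm.1.1.1.1.1.1.2 e fun y hy => (hcr y hy).2).elim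
  have hlink : ∀ y ∈ classE a d δ, ∃ z ∈ classE a d δ, Commute a z ∧ Commute z y := by
    rintro _ ⟨t, ht, rfl⟩
    obtain ⟨p, hp, rfl⟩ := mem_zip (Nat.eq_of_beq_eq_true hl.1) ht
    obtain ⟨⟨e1, e2⟩, e3⟩ := hl.2 p hp
    have hp2 := ptE_lt hC h (inE_iff.1 e1)
    refine ⟨name a d δ p.2, ⟨p.2, inE_iff.1 e1, rfl⟩, ?_, (commute_iff hC h hp2 (ptE_lt hC h ht)).2 e3⟩
    have := (commute_iff hC h (by norm_num) hp2).2 e2
    rwa [name_zero hC h] at this
  have haE := a_mem_classE hC h
  have hga : g * a * g⁻¹ ∈ classE a d δ := by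
    obtain ⟨z, hz, c1, c2⟩ := hlink x hx
    exact hstep z hz a haE c1.symm (hstep x hx z hz c2.symm hgx)
  refine mem_stabSet_of_le fun y hy => ?_
  obtain ⟨z, hz, c1, c2⟩ := hlink y hy
  exact hstep z hz y hy c2 (hstep a haE z hz c1 hga)

end Cfsg.Agent.TT95.Inv22
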