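import Cfsg.Agent.TT95.Inv22.FixR
import Cfsg.Agent.TT95.Inv22.Frames
import Cfsg.Agent.TT95.Inv22.Classes
import Cfsg.Agent.Lib.OrthCohom.Minus
import Cfsg.Prelude.Def_Solvable
import Cfsg.Prelude.Def_Transfer

/-!
Type M(22): the centraliser of the third involution.
-/

set_option autoImplicit false
set_option linter.unusedSectionVars false

namespace Cfsg.Agent.TT95.Inv22

open Cfsg.Agent.TT95.Uni22 Cfsg.Agent.TT95.Calc QuadraticMap Cfsg.Agent.OrthCohom Cfsg.Agent.Reflections

/-- The form. -/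
abbrev q6 : QuadraticForm (ZMod 2) ((Fin 2 ⊕ Fin 2) ⊕ Fin 2 → ZMod 2) := qMinus 2 (ZMod 2) 1 1

/-- The orthogonal group. -/
abbrev O6m : Type := ↥(Cfsg.isometryGroup (ZMod 2) ⇑q6)

/-- The six points with their closure. -/
def cloF2 : List ℕ :=
  stepsF2.foldl (fun l p => l ++ [mv (l.getD p.1 (sixF2.getD 0 0)) (l.getD p.2 (sixF2.getD 0 0))]) sixF2

/-- A product of pairs. -/
def kerW (S : ℕ) : List ℕ := (List.range 6).flatMap fun i =>
  cond (Nat.testBit S i) [(kerF2.getD i (0, 0)).1, (kerF2.getD i (0, 0)).2] []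

theorem frameF2_check : frameOK (2 + 2 + 2) (bilB (qmMinus 2)) ptF2 codF2 combF2 = true := by decide +kernel

theorem fixed2_check : ((List.range 3510).all fun u => Nat.beq (r2Pt u) u == ptF2.contains u) = true := by decide +kernel

theorem codF2_check : ((ptF2.all fun u => qmMinus 2 (cOf ptF2 codF2 u)) &&
    ((List.range 64).all fun k => !qmMinus 2 k || codF2.contains k) &&
    (Nat.beq ptF2.length mateF2.length && (ptF2.zip mateF2).all fun p =>
      ptF2.contains p.2 && !Nat.beq p.1 p.2 && Nat.beq (cOf ptF2 codF2 p.2) (cOf ptF2 codF2 p.1) &&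
        ptF2.all fun u => !Nat.beq (cOf ptF2 codF2 u) (cOf ptF2 codF2 p.1) || Nat.beq u p.1 || Nat.beq u p.2) &&
    (codF2.all fun v => codF2.all fun u => Nat.beq u v || bilB (qmMinus 2) u v ||
      codF2.any fun w => bilB (qmMinus 2) w v && !bilB (qmMinus 2) w u)) = true := by decide +kernel

theorem clo_check : (sixF2.all (fun x => ptF2.contains x) && Nat.beq sixF2.length 6 &&
    ((ptF2.zip mateF2).all fun p => cloF2.contains p.1 || cloF2.contains p.2)) = true := by decide +kernel

theorem kerW_check : (((List.range 6).all fun i => (ptF2.zip mateF2).contains (kerF2.getD i (0, 0))) &&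
    decide (((List.range 64).map fun S => sixF2.map fun x => mvs (kerW S) x).Nodup)) = true := by decide +kernel

variable {G : Type*} [Group G] [Finite G] {D : Set G} (hC : Cfg22 D) [Gen D] {a d : G} {δ : ℕ → G}
  (h : Std D a d δ)

include hC h

theorem exists_centAB {s : MulAut G} (hs : PMap a d δ s sPt) (h2 : s * s = 1) :
    ∃ O : Subgroup G,
      O = (Cfsg.pCore 2 ↥(fixSub (s * MulAut.conj (a * bEl a d δ)))).map
        (fixSub (s * MulAut.conj (a * bEl a d δ))).subtype ∧
      Cfsg.IsElementaryAbelian 2 O ∧ Nat.card O = 64 ∧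
      ∃ _ : (O.subgroupOf (fixSub (s * MulAut.conj (a * bEl a d δ)))).Normal,
        Nonempty (↥(fixSub (s * MulAut.conj (a * bEl a d δ))) ⧸
          O.subgroupOf (fixSub (s * MulAut.conj (a * bEl a d δ))) ≃*
            Cfsg.isometryGroup (ZMod 2) (Cfsg.quadFormMinus 2 (ZMod 2) 1 1)) := by
  classical
  set α := s * MulAut.conj (a * bEl a d δ) with hαdef
  have hR := pmap_r2 hC h hs
  rw [← hαdef] at hR
  obtain ⟨hpt, hmvin, hc, hmem, hmove⟩ := frame_spec hC h (eMinus 2) frameF2_check (B := q6.polarBilin)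
    (fun _ _ hu hv => coded6.polar_vec hu hv) (fun v => (nondegenerate_of_table coded6 nondeg6_ok).1 v)
  have hck := codF2_check
  simp only [Bool.and_eq_true, List.all_eq_true, List.mem_range, Bool.or_eq_true, List.contains_iff_mem,
    List.any_eq_true, Bool.not_eq_true'] at hck
  obtain ⟨⟨⟨hq, honto⟩, hlen, hmate⟩, hwit⟩ := hck
  set S := ptSet a d δ ptF2 with hS
  have hQ : ∀ x ∈ S, q6 (cvec (eMinus 2) a d δ ptF2 codF2 x) = 1 := by
    rintro _ ⟨t, ht, rfl⟩
    rw [cvec_name hC h (eMinus 2) (hpt t ht).1, coded6.q_vec (hpt t ht).2.1, hq t ht, if_pos rfl]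
  have hf2 := fixed2_check
  simp only [List.all_eq_true, List.mem_range, beq_iff_eq] at hf2
  have hin : ∀ {u}, u < 3510 → α (name a d δ u) = name a d δ u → u ∈ ptF2 := by
    intro u hu e
    have e' : r2Pt u = u := name_inj hC h (hR u hu).1 hu ((hR u hu).2.symm.trans e)
    have := hf2 u hu
    rw [e', Nat.beq_refl] at this
    exact List.contains_iff_mem.1 this.symm
  have hfixS : ∀ x ∈ S, α x = x := by
    rintro _ ⟨t, ht, rfl⟩
    have := hf2 t (hpt t ht).1
    rw [List.contains_iff_mem.2 ht] at this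
    rw [(hR t (hpt t ht).1).2, Nat.eq_of_beq_eq_true this]
  set C := fixSub α with hCdef
  have hCS : C ≤ stabSet S := by
    intro g hg
    refine mem_stabSet_of_le fun x hx => ?_
    obtain ⟨t, ht, rfl⟩ := hx
    obtain ⟨u, hu, eu⟩ := exists_name hC h (conj_mem hC.tt g (name_mem hC h (hpt t ht).1))
    exact ⟨u, hin hu (by rw [eu, map_mul, map_mul, map_inv, show α g = g from hg, hfixS _ ⟨t, ht, rfl⟩]), eu⟩
  obtain ⟨θ, hθ⟩ := hc.exists_isom rfl hQ
  let θ' : C →* O6m := θ.comp (Subgroup.inclusion hCS)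
  have hθ' : ∀ (g : C), ∀ x ∈ S, Reflections.act (θ' g) (cvec (eMinus 2) a d δ ptF2 codF2 x) =
      cvec (eMinus 2) a d δ ptF2 codF2 ((g : G) * x * (g : G)⁻¹) := fun g x hx => hθ _ x hx
  have hsurj : Function.Surjective θ' := by
    rw [← MonoidHom.range_eq_top, eq_top_iff, ← reflGroup_minus6, reflGroup, Subgroup.closure_le]
    intro g hg
    obtain ⟨v, hv, rfl⟩ := exists_of_mem_reflSet hg
    obtain ⟨k, hk, rfl⟩ := vec_surj (eMinus 2) v
    rw [coded6.q_vec hk] at hv
    have hqk : qmMinus 2 k = true := by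
      by_contra hh
      exact hv (if_neg hh)
    obtain ⟨t, ht, etk⟩ : ∃ t ∈ ptF2, cOf ptF2 codF2 t = k := by
      have hl : ptF2.length = codF2.length := by decide +kernel
      have hm : k ∈ codF2 := by
        rcases honto k hk with e | e
        · rw [hqk] at e; exact Bool.noConfusion e
        · exact e
      have : k ∈ (ptF2.zip codF2).map Prod.snd := by rw [List.map_snd_zip (le_of_eq hl.symm)]; exact hm
      obtain ⟨q, hq', eq⟩ := List.mem_map.1 this
      have hf := frameF2_check
      simp only [frameOK, Bool.and_eq_true, List.all_eq_true] at hf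
      exact ⟨q.1, (List.of_mem_zip hq').1, (Nat.eq_of_beq_eq_true (hf.1.1.2 q hq').2).trans eq⟩
    refine ⟨⟨_, hfixS _ ⟨t, ht, rfl⟩⟩, ?_⟩
    have := hc.refl_eq rfl hQ hθ ⟨t, ht, rfl⟩ (hmem t ht) (hmove _ ⟨t, ht, rfl⟩)
    rw [cvec_name hC h (eMinus 2) (hpt t ht).1, etk] at this
    exact this
  -- the kernel
  have hker : ∀ g : C, g ∈ θ'.ker ↔ ∀ x ∈ S,
      cvec (eMinus 2) a d δ ptF2 codF2 ((g : G) * x * (g : G)⁻¹) = cvec (eMinus 2) a d δ ptF2 codF2 x := by
    intro g
    rw [MonoidHom.mem_ker]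
    constructor
    · intro e x hx
      rw [← hθ' g x hx, e, Reflections.act_one]
    · intro e
      refine hc.isom_eq fun x hx => ?_
      rw [hθ' g x hx, e x hx, Reflections.act_one]
  have hpair : ∀ g : C, g ∈ θ'.ker → ∀ p ∈ ptF2.zip mateF2,
      (g : G) * name a d δ p.1 * (g : G)⁻¹ = name a d δ p.1 ∨ (g : G) * name a d δ p.1 * (g : G)⁻¹ = name a d δ p.2 := by
    intro g hg p hp
    have hp1 := (List.of_mem_zip hp).1
    obtain ⟨u, hu, eu⟩ := (hCS g.2 _).2 (⟨p.1, hp1, rfl⟩ : name a d δ p.1 ∈ S)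
    have e := (hker g).1 hg _ ⟨p.1, hp1, rfl⟩
    rw [← eu, cvec_name hC h (eMinus 2) (hpt u hu).1, cvec_name hC h (eMinus 2) (hpt _ hp1).1] at e
    have hcd := vec_inj (eMinus 2) (hpt u hu).2.1 (hpt _ hp1).2.1 e
    have := (hmate p hp).2 u hu
    rw [hcd, Nat.beq_refl] at this
    rcases this with (e1 | e1) | e1
    · exact Bool.noConfusion e1
    · exact Or.inl (by rw [← eu, Nat.eq_of_beq_eq_true e1])
    · exact Or.inr (by rw [← eu, Nat.eq_of_beq_eq_true e1])
  have hclo := clo_check
  simp only [Bool.and_eq_true, List.all_eq_true, Bool.or_eq_true, List.contains_iff_mem] at hclo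
  obtain ⟨⟨hsix, hsix6⟩, hcover⟩ := hclo
  have hrigid : ∀ g : C, g ∈ θ'.ker → (∀ x ∈ sixF2, (g : G) * name a d δ x * (g : G)⁻¹ = name a d δ x) → g = 1 := by
    intro g hg hfix
    have hl6 := Nat.eq_of_beq_eq_true hsix6
    have h00 : sixF2.getD 0 0 ∈ sixF2 := by
      rw [List.getD_eq_getElem _ _ (by rw [hl6]; norm_num)]
      exact List.getElem_mem _
    let P : ℕ → Prop := fun x => x ∈ ptF2 ∧ (g : G) * name a d δ x * (g : G)⁻¹ = name a d δ x
    have hall : ∀ (L : List (ℕ × ℕ)) (l : List ℕ), (∀ x ∈ l, P x) →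
        ∀ x ∈ L.foldl (fun l p => l ++ [mv (l.getD p.1 (sixF2.getD 0 0)) (l.getD p.2 (sixF2.getD 0 0))]) l, P x := by
      intro L
      induction L with
      | nil => exact fun l hl => hl
      | cons p L ih =>
        intro l hl
        refine ih _ fun x hx => ?_
        rcases List.mem_append.1 hx with hx | hx
        · exact hl x hx
        obtain rfl := List.mem_singleton.1 hx
        have hget : ∀ i, P (l.getD i (sixF2.getD 0 0)) := fun i => by
          by_cases hi : i < l.length
          · rw [List.getD_eq_getElem _ _ hi]; exact hl _ (List.getElem_mem hi)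
          · rw [List.getD_eq_default _ _ (not_lt.1 hi)]
            exact ⟨List.contains_iff_mem.1 (List.contains_iff_mem.2 (hsix _ h00)), hfix _ h00⟩
        obtain ⟨i1, i2⟩ := hget p.1
        obtain ⟨j1, j2⟩ := hget p.2
        refine ⟨hmvin _ i1 _ j1, ?_⟩
        rw [← mv_conj hC h (hpt _ i1).1 (hpt _ j1).1]
        conv_rhs => rw [← i2, ← j2]
        group
    have hsix' : ∀ x ∈ sixF2, P x := fun x hx => ⟨hsix x hx, hfix x hx⟩
    refine Subtype.ext (trivial_of_seventyTwo hC h hs h2 fun t ht => mul_inv_eq_iff_eq_mul.1 ?_)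
    obtain ⟨p, hp, rfl⟩ := mem_zip (Nat.eq_of_beq_eq_true hlen) ht
    rcases hcover p hp with e | e
    · exact (hall stepsF2 sixF2 hsix' _ e).2
    · obtain ⟨hp2, hfix2⟩ := hall stepsF2 sixF2 hsix' _ e
      rcases hpair g hg p hp with e1 | e1
      · exact e1
      · exfalso
        have := mul_left_cancel (mul_right_cancel (e1.trans hfix2.symm))
        have h0 := (hmate p hp).1.1.2
        rw [name_inj hC h (hpt _ ht).1 (hpt _ hp2).1 this, Nat.beq_refl] at h0
        exact Bool.noConfusion h0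
  have hswap : ∀ g : C, g ∈ θ'.ker → ∀ t ∈ ptF2,
      (g : G) * ((g : G) * name a d δ t * (g : G)⁻¹) * (g : G)⁻¹ = name a d δ t := by
    intro g hg t ht
    obtain ⟨p, hp, rfl⟩ := mem_zip (Nat.eq_of_beq_eq_true hlen) ht
    rcases hpair g hg p hp with e | e
    · rw [e, e]
    · have hp2 : p.2 ∈ ptF2 := (hmate p hp).1.1.1
      rw [e]
      obtain ⟨q, hq', eq⟩ := mem_zip (Nat.eq_of_beq_eq_true hlen) hp2
      obtain ⟨u, hu, eu⟩ := (hCS g.2 _).2 (⟨p.2, hp2, rfl⟩ : name a d δ p.2 ∈ S)
      have ek := (hker g).1 hg _ ⟨p.2, hp2, rfl⟩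
      rw [← eu, cvec_name hC h (eMinus 2) (hpt u hu).1, cvec_name hC h (eMinus 2) (hpt _ hp2).1] at ek
      have hcd := vec_inj (eMinus 2) (hpt u hu).2.1 (hpt _ hp2).2.1 ek
      have h3 := (hmate p hp).2 u hu
      rw [hcd, Nat.eq_of_beq_eq_true (hmate p hp).1.2, Nat.beq_refl] at h3
      rcases h3 with (e1 | e1) | e1
      · exact Bool.noConfusion e1
      · rw [← eu, Nat.eq_of_beq_eq_true e1]
      · exfalso
        rw [Nat.eq_of_beq_eq_true e1] at eu
        have := mul_left_cancel (mul_right_cancel (e.trans eu))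
        have h0 := (hmate p hp).1.1.2
        rw [name_inj hC h (hpt _ ht).1 (hpt _ hp2).1 this, Nat.beq_refl] at h0
        exact Bool.noConfusion h0
  have hsq : ∀ g : C, g ∈ θ'.ker → g * g = 1 := fun g hg =>
    hrigid _ (mul_mem hg hg) fun x hx => by
      rw [Subgroup.coe_mul, show (g : G) * g * name a d δ x * ((g : G) * g)⁻¹ =
        (g : G) * ((g : G) * name a d δ x * (g : G)⁻¹) * (g : G)⁻¹ by group]
      exact hswap g hg x (hsix x hx)
  -- upper bound
  let flip : θ'.ker → (Fin 6 → Bool) := fun g i =>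
    decide (((g : C) : G) * name a d δ (sixF2.getD i 0) * ((g : C) : G)⁻¹ = name a d δ (sixF2.getD i 0))
  have hflip : Function.Injective flip := by
    intro g k e
    have hgk : ∀ x ∈ sixF2, ((g : C) : G) * name a d δ x * ((g : C) : G)⁻¹ =
        ((k : C) : G) * name a d δ x * ((k : C) : G)⁻¹ := by
      intro x hx
      obtain ⟨i, hi, rfl⟩ := List.getElem_of_mem hx
      have e' := congrFun e ⟨i, by rw [← Nat.eq_of_beq_eq_true hsix6]; exact hi⟩
      simp only [flip, List.getD_eq_getElem _ _ hi, decide_eq_decide] at e'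
      obtain ⟨p, hp, ep⟩ := mem_zip (Nat.eq_of_beq_eq_true hlen) (hsix _ hx)
      rcases hpair _ g.2 p hp with e1 | e1 <;> rcases hpair _ k.2 p hp with e2 | e2 <;> rw [ep] at e1 e2
      · rw [e1, e2]
      · rw [e1, e'.1 e1]
      · rw [e'.2 e2, e2]
      · rw [e1, e2]
    have := hrigid ((k : C)⁻¹ * g) (mul_mem (inv_mem k.2) g.2) fun x hx => by
      rw [Subgroup.coe_mul, Subgroup.coe_inv, show ((k : C) : G)⁻¹ * ((g : C) : G) * name a d δ x *
        (((k : C) : G)⁻¹ * ((g : C) : G))⁻¹ =
        ((k : C) : G)⁻¹ * (((g : C) : G) * name a d δ x * ((g : C) : G)⁻¹) * ((k : C) : G) by group, hgk x hx]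
      group
    exact Subtype.ext (inv_mul_eq_one.1 this).symm
  have hle64 : Nat.card θ'.ker ≤ 64 := by
    have := Nat.card_le_card_of_injective flip hflip
    rwa [Nat.card_fun, Nat.card_eq_fintype_card (α := Bool), Fintype.card_bool, Nat.card_eq_fintype_card (α := Fin 6),
      Fintype.card_fin] at this
  -- lower bound
  have hkw := kerW_check
  simp only [Bool.and_eq_true, List.all_eq_true, List.mem_range, List.contains_iff_mem, decide_eq_true_eq] at hkw
  obtain ⟨hkp, hknd⟩ := hkw
  have hkmem : ∀ S', ∀ t ∈ kerW S', t < 3510 := by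
    intro S' t ht
    simp only [kerW, List.mem_flatMap, List.mem_range] at ht
    obtain ⟨i, hi, ht⟩ := ht
    cases hb : Nat.testBit S' i <;> rw [hb] at ht
    · simp at ht
    · obtain ⟨m1, m2⟩ := List.of_mem_zip (hkp i hi)
      have hm : kerF2.getD i (0, 0) ∈ ptF2.zip mateF2 := hkp i hi
      simp only [cond_true, List.mem_cons, List.not_mem_nil, or_false] at ht
      rcases ht with rfl | rfl
      · exact (hpt _ m1).1
      · exact (hpt _ (hmate _ hm).1.1.1).1
  have hkprod : ∀ S', ∃ g : C, g ∈ θ'.ker ∧ (g : G) = ((kerW S').map (name a d δ)).prod := by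
    intro S'
    show ∃ g : C, g ∈ θ'.ker ∧ (g : G) = (((List.range 6).flatMap _).map (name a d δ)).prod
    have hr : ∀ i ∈ List.range 6, i < 6 := fun i hi => List.mem_range.1 hi
    generalize List.range 6 = R6 at hr ⊢
    induction R6 with
    | nil => exact ⟨1, one_mem _, rfl⟩
    | cons i R6 ih =>
      obtain ⟨g, hg, eg⟩ := ih fun j hj => hr j (List.mem_cons_of_mem _ hj)
      rw [List.flatMap_cons, List.map_append, List.prod_append, ← eg]
      cases hb : Nat.testBit S' i
      · exact ⟨g, hg, by simp⟩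
      · obtain ⟨m1, -⟩ := List.of_mem_zip (hkp i (hr i List.mem_cons_self))
        have hm := (hmate _ (hkp i (hr i List.mem_cons_self))).1
        set x := (kerF2.getD i (0, 0)).1 with hx
        set y := (kerF2.getD i (0, 0)).2 with hy
        have m2 : y ∈ ptF2 := hm.1.1
        refine ⟨⟨_, hfixS _ ⟨x, m1, rfl⟩⟩ * ⟨_, hfixS _ ⟨y, m2, rfl⟩⟩ * g, mul_mem ?_ hg, by simp [mul_assoc]⟩
        rw [MonoidHom.mem_ker, map_mul]
        have e1 := hc.refl_eq rfl hQ hθ ⟨x, m1, rfl⟩ (hmem x m1) (hmove _ ⟨x, m1, rfl⟩)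
        have e2 := hc.refl_eq rfl hQ hθ ⟨y, m2, rfl⟩ (hmem y m2) (hmove _ ⟨y, m2, rfl⟩)
        rw [cvec_name hC h (eMinus 2) (hpt x m1).1] at e1
        rw [cvec_name hC h (eMinus 2) (hpt y m2).1, Nat.eq_of_beq_eq_true hm.2] at e2
        show θ ⟨_, _⟩ * θ ⟨_, _⟩ = 1
        rw [e1, e2]
        exact refl_mul_self (coded6.ne_zero (hpt x m1).2.1 (hq x m1))
  have hge64 : 64 ≤ Nat.card θ'.ker := by
    choose k hk hkv using hkprod
    have hinj : Function.Injective (fun S' : Fin 64 => (⟨k S', hk S'⟩ : θ'.ker)) := by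
      intro S' T' e
      have e' : k S' = k T' := congrArg Subtype.val e
      refine Fin.ext (List.inj_on_of_nodup_map hknd (List.mem_range.2 S'.2) (List.mem_range.2 T'.2) ?_)
      refine List.map_congr_left fun x hx => ?_
      have hxl := (hpt x (hsix x hx)).1
      obtain ⟨p1, p2⟩ := pmap_prod hC h (hkmem S') x hxl
      obtain ⟨q1, q2⟩ := pmap_prod hC h (hkmem T') x hxl
      rw [← hkv, e'] at p2
      rw [← hkv] at q2
      exact name_inj hC h p1 q1 (p2.symm.trans q2)
    have := Nat.card_le_card_of_injective _ hinj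
    rwa [Nat.card_eq_fintype_card, Fintype.card_fin] at this
  have hcard : Nat.card θ'.ker = 64 := le_antisymm hle64 hge64
  -- the largest normal two-subgroup
  have hcore : Cfsg.pCore 2 ↥C = θ'.ker := by
    refine le_antisymm (sSup_le ?_) (le_sSup ⟨MonoidHom.normal_ker θ', IsPGroup.of_card (n := 6) hcard⟩)
    rintro N ⟨hN, hN2⟩ n hn
    refine (hker n).2 ?_
    rintro _ ⟨t, ht, rfl⟩
    obtain ⟨u, hu, eu⟩ := (hCS n.2 _).2 (⟨t, ht, rfl⟩ : name a d δ t ∈ S)
    rw [← eu, cvec_name hC h (eMinus 2) (hpt u hu).1, cvec_name hC h (eMinus 2) (hpt t ht).1]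
    congr 1
    by_contra hne
    have hlt := (hpt t ht).1
    have hul := (hpt u hu).1
    let T : C := ⟨_, hfixS _ ⟨t, ht, rfl⟩⟩
    let U : C := ⟨_, hfixS _ ⟨u, hu, rfl⟩⟩
    have hTT : T * T = 1 := Subtype.ext (sq hC.tt (name_mem hC h hlt))
    have hUT : U * T ∈ N := by
      have e : U = n * T * n⁻¹ := Subtype.ext eu
      rw [e, show n * T * n⁻¹ * T = n * (T * n⁻¹ * T) by group]
      refine N.mul_mem hn ?_
      have := hN.conj_mem _ (N.inv_mem hn) T
      rwa [inv_eq_of_mul_eq_one_right hTT] at this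
    have hthree : ∀ (x y : ℕ) (hx : x ∈ ptF2) (hy : y ∈ ptF2),
        ¬ Commute (name a d δ x) (name a d δ y) →
        (⟨_, hfixS _ ⟨x, hx, rfl⟩⟩ : C) * ⟨_, hfixS _ ⟨y, hy, rfl⟩⟩ ∉ N := by
      intro x y hx hy hn' hmem'
      have mx := name_mem hC h (hpt x hx).1
      have my := name_mem hC h (hpt y hy).1
      obtain ⟨j, hj⟩ := hN2 ⟨_, hmem'⟩
      set Z : C := ⟨_, hfixS _ ⟨x, hx, rfl⟩⟩ * ⟨_, hfixS _ ⟨y, hy, rfl⟩⟩ with hZ
      have hj' : Z ^ (2 ^ j) = 1 := congrArg Subtype.val hj
      have h3 : Z ^ 3 = 1 := by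
        refine Subtype.ext ?_
        rw [Subgroup.coe_pow]
        show (name a d δ x * name a d δ y) ^ 3 = 1
        rw [pow_three, show name a d δ x * name a d δ y * (name a d δ x * name a d δ y * (name a d δ x * name a d δ y)) =
          (name a d δ x * name a d δ y * name a d δ x) * (name a d δ y * name a d δ x * name a d δ y) by group,
          ← braid hC.tt mx my hn', show name a d δ x * name a d δ y * name a d δ x * (name a d δ x * name a d δ y *
            name a d δ x) = name a d δ x * name a d δ y * (name a d δ x * name a d δ x) * name a d δ y * name a d δ x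
          by group, sq hC.tt mx, mul_one, mul_assoc (name a d δ x), sq hC.tt my, mul_one, sq hC.tt mx]
      have hd1 := orderOf_dvd_of_pow_eq_one hj'
      have hd3 := orderOf_dvd_of_pow_eq_one h3
      have h1 : orderOf Z = 1 := Nat.eq_one_of_dvd_coprimes
        ((Nat.Coprime.pow_right j (by norm_num)) : Nat.Coprime 3 (2 ^ j)) hd3 hd1
      have hZ1 := congrArg Subtype.val (orderOf_eq_one_iff.1 h1)
      change name a d δ x * name a d δ y = 1 at hZ1
      rw [eq_inv_of_mul_eq_one_left hZ1, inv_eq hC.tt my] at hn'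
      exact hn' (Commute.refl _)
    by_cases hcu : Commute (name a d δ u) (name a d δ t)
    · have hb : bilB (qmMinus 2) (cOf ptF2 codF2 u) (cOf ptF2 codF2 t) = false := by
        have := (hc.comm _ ⟨u, hu, rfl⟩ _ ⟨t, ht, rfl⟩).1 hcu
        rw [cvec_name hC h (eMinus 2) hul, cvec_name hC h (eMinus 2) hlt] at this
        have h' := (coded6.polar_vec (hpt u hu).2.1 (hpt t ht).2.1).symm.trans this
        cases hh : bilB (qmMinus 2) (cOf ptF2 codF2 u) (cOf ptF2 codF2 t)
        · rfl
        · rw [hh] at h'; simp at h'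
      have hcm : ∀ {x}, x ∈ ptF2 → cOf ptF2 codF2 x ∈ codF2 := fun {x} hx => by
        have hl : ptF2.length = codF2.length := by decide +kernel
        obtain ⟨q, hq', rfl⟩ := mem_zip hl hx
        have hf := frameF2_check
        simp only [frameOK, Bool.and_eq_true, List.all_eq_true] at hf
        rw [Nat.eq_of_beq_eq_true (hf.1.1.2 q hq').2]
        exact (List.of_mem_zip hq').2
      rcases hwit _ (hcm ht) _ (hcm hu) with (e | e) | ⟨w, hw, hw1, hw2⟩
      · exact hne (Nat.eq_of_beq_eq_true e)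
      · rw [hb] at e; exact Bool.noConfusion e
      obtain ⟨k, hk, rfl⟩ : ∃ k ∈ ptF2, cOf ptF2 codF2 k = w := by
        have hl : ptF2.length = codF2.length := by decide +kernel
        have : w ∈ (ptF2.zip codF2).map Prod.snd := by rw [List.map_snd_zip (le_of_eq hl.symm)]; exact hw
        obtain ⟨q, hq', eq⟩ := List.mem_map.1 this
        have hf := frameF2_check
        simp only [frameOK, Bool.and_eq_true, List.all_eq_true] at hf
        exact ⟨q.1, (List.of_mem_zip hq').1, (Nat.eq_of_beq_eq_true (hf.1.1.2 q hq').2).trans eq⟩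
      have hkl := (hpt k hk).1
      have hkt : ¬ Commute (name a d δ k) (name a d δ t) := fun hh => by
        have := (hc.comm _ ⟨k, hk, rfl⟩ _ ⟨t, ht, rfl⟩).1 hh
        rw [cvec_name hC h (eMinus 2) hkl, cvec_name hC h (eMinus 2) hlt] at this
        have h' := (coded6.polar_vec (hpt k hk).2.1 (hpt t ht).2.1).symm.trans this
        rw [hw1] at h'; simp at h'
      have hku : Commute (name a d δ k) (name a d δ u) := by
        refine (hc.comm _ ⟨k, hk, rfl⟩ _ ⟨u, hu, rfl⟩).2 ?_
        rw [cvec_name hC h (eMinus 2) hkl, cvec_name hC h (eMinus 2) hul]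
        refine (coded6.polar_vec (hpt k hk).2.1 (hpt u hu).2.1).trans ?_
        rw [hw2]; simp
      have hk2 := hmvin k hk t ht
      have hconj := mv_conj hC h hkl hlt
      have hnct : ¬ Commute (name a d δ t) (name a d δ (mv k t)) := by
        rw [← hconj]
        intro hh
        have mk := name_mem hC h hkl
        have mt := name_mem hC h hlt
        rw [inv_eq hC.tt mk, braid hC.tt mk mt hkt] at hh
        have h5 : Commute (name a d δ t) (name a d δ k) := by
          have := ((Commute.refl (name a d δ t)).mul_right hh).mul_right (Commute.refl (name a d δ t))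
          rwa [show name a d δ t * (name a d δ t * name a d δ k * name a d δ t) * name a d δ t =
            (name a d δ t * name a d δ t) * name a d δ k * (name a d δ t * name a d δ t) by group,
            sq hC.tt mt, one_mul, mul_one] at this
        exact hkt h5.symm
      refine hthree t (mv k t) ht hk2 hnct ?_
      have h4 := N.mul_mem hUT (hN.conj_mem _ hUT ⟨_, hfixS _ ⟨k, hk, rfl⟩⟩)
      convert h4 using 1
      refine Subtype.ext ?_
      show name a d δ t * name a d δ (mv k t) =
        name a d δ u * name a d δ t * (name a d δ k * (name a d δ u * name a d δ t) * (name a d δ k)⁻¹)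
      rw [← hconj, show name a d δ u * name a d δ t * (name a d δ k * (name a d δ u * name a d δ t) * (name a d δ k)⁻¹) =
        name a d δ u * name a d δ t * (name a d δ k * name a d δ u * (name a d δ k)⁻¹) *
          (name a d δ k * name a d δ t * (name a d δ k)⁻¹) by group, hku.eq, mul_inv_cancel_right, hcu.eq,
        mul_assoc (name a d δ t) (name a d δ u), sq hC.tt (name_mem hC h hul), mul_one]
    · exact hthree u t hu ht hcu hUT
  refine ⟨_, rfl, ⟨⟨⟨?_⟩⟩, ?_⟩, ?_, ?_⟩
  · rintro ⟨_, x, hx, rfl⟩ ⟨_, y, hy, rfl⟩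
    rw [hcore] at hx hy
    refine Subtype.ext ?_
    show (x : G) * y = y * x
    have e : x * y = y * x := by
      have := hsq _ (mul_mem hx hy)
      calc x * y = (x * y)⁻¹ := eq_inv_of_mul_eq_one_left this
        _ = y⁻¹ * x⁻¹ := mul_inv_rev x y
        _ = y * x := by rw [inv_eq_of_mul_eq_one_left (hsq x hx), inv_eq_of_mul_eq_one_left (hsq y hy)]
    exact congrArg Subtype.val e
  · rintro _ ⟨x, hx, rfl⟩
    rw [hcore] at hx
    rw [pow_two, ← map_mul, hsq x hx, map_one]
  · rw [Nat.card_congr ((Cfsg.pCore 2 ↥C).equivMapOfInjective _ C.subtype_injective).symm.toEquiv, hcore, hcard]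
  · have hO : ((Cfsg.pCore 2 ↥C).map C.subtype).subgroupOf C = θ'.ker := by
      rw [Subgroup.subgroupOf, Subgroup.comap_map_eq_self_of_injective C.subtype_injective, hcore]
    have hn : (((Cfsg.pCore 2 ↥C).map C.subtype).subgroupOf C).Normal := hO ▸ MonoidHom.normal_ker θ'
    refine ⟨hn, ?_⟩
    rw [← coe_qMinus]
    exact ⟨(QuotientGroup.quotientMulEquivOfEq hO).trans (QuotientGroup.quotientKerEquivOfSurjective θ' hsurj)⟩

end Cfsg.Agent.TT95.Inv22
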