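import Cfsg.Agent.TT95.Inv22.KeyDefs

/-!
Type M(22): the outer involutions fixing two transpositions and a key, reduced to the three representatives.
-/

set_option autoImplicit false
set_option linter.unusedSectionVars false

namespace Cfsg.Agent.TT95.Inv22

open Cfsg.Agent.TT95.Uni22 Cfsg.Agent.TT95.Calc

/-- The words of the two key classes. -/
def repW (r : ℕ) : List ℕ := cond (Nat.beq r 2) [0] []

/-- The map of one of the three representatives. -/
def tgtPt (k t : ℕ) : ℕ := cond (Nat.beq k 0) (sPt t) (cond (Nat.beq k 1) (r1Pt t) (r2Pt t))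

/-- One element of a coset with its witness. -/
def witOK (r bb e : ℕ) (w : ℕ × List ℕ) : Bool :=
  (w.2.all fun t => Nat.blt t 3510) && tgL.all fun x =>
    Nat.beq (sPt (mvs (wPts (repW r) ++ (cenPts e ++ kerPts bb)) x)) (mvs w.2 (tgtPt w.1 (mvs w.2.reverse x)))

/-- The map of a coset on the common neighbours. -/
def cosX (r bb x : ℕ) : ℕ := tab8 sX (wX (repW r) (kerXf bb x))

/-- A coset is not involutory, or all its four elements have witnesses. -/
def leafOK (r bb : ℕ) : Bool :=
  ((List.range 180).any fun x => !Nat.beq (cosX r bb (cosX r bb x)) x) ||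
    leafL.any fun L => Nat.beq L.1 r && Nat.beq L.2.1 bb && (List.range 4).all fun e => witOK r bb e (L.2.2.getD e (0, []))

theorem leaf_check1 : ((List.range 256).all fun bb => leafOK 1 bb) = true := by decide +kernel

theorem leaf_check2 : ((List.range 256).all fun bb => leafOK 2 bb) = true := by decide +kernel

/-- A word on the keys after the involution. -/
def tauK (w : List ℕ) (j : ℕ) : ℕ := tab6 sK (wK w j)

/-- One element of the key stabiliser: not involutory after the involution, or conjugate to a class. -/
def classOK (w : List ℕ) (c : ℕ × List ℕ) : Bool :=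
  cond (Nat.beq c.1 0) ((List.range 45).any fun j => !Nat.beq (tauK w (tauK w j)) j)
    ((Nat.beq c.1 1 || Nat.beq c.1 2) && (c.2.all fun i => Nat.blt i 45) &&
      (List.range 45).all fun j => Nat.beq (wK c.2 (tauK w (wK c.2.reverse j))) (tauK (repW c.1) j))

theorem class_check : (Nat.beq stabC.length stabW.length && (stabW.zip stabC).all fun p => classOK p.1 p.2) = true := by
  decide +kernel

end Cfsg.Agent.TT95.Inv22
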