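import Cfsg.Agent.TT95.Inv22.KeyStab
import Cfsg.Agent.TT95.Inv22.Leaves
import Cfsg.Agent.TT95.AutoFix
import Cfsg.Agent.TT95.Auto
import Cfsg.Agent.TT95.Out22.AutPair

/-!
Type M(22): every outer involution is conjugate to one of three.
-/

set_option autoImplicit false
set_option linter.unusedSectionVars false

namespace Cfsg.Agent.TT95.Inv22

open Cfsg.Agent.TT95.Uni22 Cfsg.Agent.TT95.Calc

variable {G : Type*} [Group G] [Finite G] {D : Set G} (hC : Cfg22 D) [Gen D] {a d : G} {δ : ℕ → G}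
  (h : Std D a d δ)

/-- One of the three representatives, or conjugate to it. -/
def Goal (a d : G) (δ : ℕ → G) (s t : MulAut G) : Prop :=
  IsConj t s ∨ IsConj t (s * MulAut.conj a) ∨ IsConj t (s * MulAut.conj (a * bEl a d δ))

theorem Goal.of_conj {s t t' : MulAut G} (e : IsConj t t') (hg : Goal a d δ s t') : Goal a d δ s t :=
  hg.imp (fun e' => e.trans e') (fun hg' => hg'.imp (fun e' => e.trans e') (fun e' => e.trans e'))

include hC h

theorem sigma_AB {s : MulAut G} (hs : PMap a d δ s sPt) (hpres : ∀ (α : MulAut G) (x : G), α x ∈ D ↔ x ∈ D) :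
    AB D a d δ s ∧ XMap a d δ s (tab8 sX) ∧ KMap a d δ s (tab6 sK) := by
  obtain ⟨e0, e1⟩ := sigma_fix hC h hs
  have hl := letter_check
  simp only [Bool.and_eq_true, List.all_eq_true, List.mem_range, Nat.blt_eq] at hl
  obtain ⟨⟨-, hsk⟩, hsx⟩ := hl
  have hX : XMap a d δ s (tab8 sX) := fun x hx =>
    ⟨(hsx x hx).1, by rw [(hs _ (xPt_lt hx)).2, Nat.eq_of_beq_eq_true (hsx x hx).2]⟩
  exact ⟨⟨hpres s, e0, e1⟩, hX, (hX.kmap hC h).congr fun j hj => Nat.eq_of_beq_eq_true (hsk j hj)⟩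

/-- An involution fixing the two transpositions and the key with the key action of a representative. -/
theorem goal_rep {s : MulAut G} (hs : PMap a d δ s sPt) (h2 : s * s = 1)
    (hpres : ∀ (α : MulAut G) (x : G), α x ∈ D ↔ x ∈ D) (hcore : Core22 G D) {r : ℕ} (hr : r = 1 ∨ r = 2)
    {g : G} (hg : g ∈ hGrp a d δ) (hinv : (s * MulAut.conj g) * (s * MulAut.conj g) = 1)
    (hk : ∀ k, KMap a d δ (s * MulAut.conj g) k → ∀ j, j < 45 → k j = tauK (repW r) j) :
    Goal a d δ s (s * MulAut.conj g) := by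
  obtain ⟨hsAB, hsX, hsK⟩ := sigma_AB hC h hs hpres
  have hrw : ∀ i ∈ repW r, i < 45 := by rcases hr with rfl | rfl <;> decide
  obtain ⟨w1, w2, w3⟩ := wEl_maps hC h hrw
  set W := wEl a d δ (repW r) with hWdef
  -- the difference fixes every key
  have hc : W⁻¹ * g ∈ hGrp a d δ := mul_mem (inv_mem w1) hg
  obtain ⟨f, hf⟩ := exists_xmap hC h (ab_conj hC h hc)
  have hkc := hf.kmap hC h
  have hk45 : key0 < 45 := by decide +kernel
  have htriv : ∀ j, j < 45 → kidX (f (repX j)) = j := by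
    intro j hj
    have hsum : KMap a d δ (s * MulAut.conj g) (fun j => tauK (repW r) (kidX (f (repX j)))) := by
      have := hsK.mul hC h (w3.mul hC h hkc (ab_conj hC h hc)) ((ab_conj hC h w1).mul (ab_conj hC h hc))
      rwa [← map_mul, mul_inv_cancel_left] at this
    have e := hk _ hsum j hj
    have hl := hkc.lt hC h (ab_conj hC h hc) hj
    -- cancel the representative
    have hid : KMap a d δ ((MulAut.conj W)⁻¹ * (s * (s * MulAut.conj W))) (fun j => j) := by
      rw [← mul_assoc s, h2, one_mul, inv_mul_cancel]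
      exact kmap_one hC h
    obtain ⟨fi, hfi⟩ := exists_xmap hC h (ab_conj hC h w1).inv
    have h1 := (hfi.kmap hC h).mul hC h (hsK.mul hC h (hsK.mul hC h w3 (ab_conj hC h w1))
      (hsAB.mul (ab_conj hC h w1))) (hsAB.mul (hsAB.mul (ab_conj hC h w1)))
    have hAB1 : AB D a d δ ((MulAut.conj W)⁻¹ * (s * (s * MulAut.conj W))) :=
      (ab_conj hC h w1).inv.mul (hsAB.mul (hsAB.mul (ab_conj hC h w1)))
    have u1 := KMap.unique hC h h1 hid hAB1 hl
    have u2 := KMap.unique hC h h1 hid hAB1 hj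
    simp only [tauK] at e u1 u2
    rw [e] at u1
    exact u1.symm.trans u2
  have hcK : W⁻¹ * g ∈ keyFix a d δ := ⟨hc, _, hkc, htriv key0 hk45⟩
  obtain ⟨i, bb, e, hi, hbb, he, heq⟩ := exists_decomp hC h hcore hcK
  -- the word part is trivial
  have hwc := words_check
  simp only [Bool.and_eq_true, List.all_eq_true, List.mem_range, Nat.blt_eq] at hwc
  obtain ⟨⟨⟨⟨⟨⟨⟨hlen, -⟩, -⟩, hsw⟩, -⟩, hinc⟩, hnil⟩, -⟩ := hwc
  have hlen' := Nat.eq_of_beq_eq_true hlen
  have hi' : i < stabW.length := by rw [hlen']; exact hi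
  have h575 : 575 < stabW.length := by rw [hlen']; norm_num
  have hwl : ∀ j ∈ stabW.getD i [], j < 45 := by
    rw [List.getD_eq_getElem _ _ hi']; exact (hsw _ (List.getElem_mem hi')).1
  obtain ⟨m1, -, m3⟩ := wEl_maps hC h hwl
  obtain ⟨n1, n2, n3⟩ := kEl_maps hC h bb e
  have hempty : stabW.getD i [] = [] := by
    have hk2 := m3.mul hC h n3 (ab_conj hC h n1)
    rw [← map_mul, ← heq] at hk2
    have henc : encK (stabW.getD i []) = encK [] := by
      refine List.foldr_ext _ _ _ fun j hj acc => ?_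
      have hj' := List.mem_range.1 hj
      rw [KMap.unique hC h hk2 hkc (ab_conj hC h hc) hj', htriv j hj']
      rfl
    have h0 : stabW.getD 575 [] = [] := by
      have e0 := Nat.eq_of_beq_eq_true hnil
      rw [List.getD_eq_getElem _ _ h575] at e0 ⊢
      exact List.length_eq_zero_iff.1 e0
    rw [← h0, List.getD_eq_getElem _ _ hi', List.getD_eq_getElem _ _ h575] at henc
    have hnd : (stabW.map encK).Nodup := (incB_spec _ hinc).imp fun hab => Nat.ne_of_lt hab
    have : i = 575 := (hnd.getElem_inj_iff (i := i) (j := 575) (hi := by rw [List.length_map]; exact hi')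
      (hj := by rw [List.length_map]; exact h575)).1 (by rw [List.getElem_map, List.getElem_map]; exact henc)
    rw [this, h0]
  rw [hempty, show wEl a d δ ([] : List ℕ) = 1 from rfl, one_mul] at heq
  obtain rfl : g = W * kEl a d δ bb e := by rw [← heq, mul_inv_cancel_left]
  -- the certificate of the coset
  have hleaf : leafOK r bb = true := by
    rcases hr with rfl | rfl
    · exact List.all_eq_true.1 leaf_check1 bb (List.mem_range.2 hbb)
    · exact List.all_eq_true.1 leaf_check2 bb (List.mem_range.2 hbb)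
  rw [leafOK, Bool.or_eq_true, List.any_eq_true, List.any_eq_true] at hleaf
  rcases hleaf with ⟨x, hx, e1⟩ | ⟨L, hL, e1⟩
  · exfalso
    have hx' := List.mem_range.1 hx
    have hX : XMap a d δ (s * MulAut.conj (W * kEl a d δ bb e)) (cosX r bb) := by
      rw [map_mul]
      exact hsX.mul (w2.mul n2)
    have hXX := hX.mul hX
    rw [hinv] at hXX
    obtain ⟨q1, q2⟩ := hXX x hx'
    simp only [MulAut.one_apply] at q1 q2
    rw [← xName_inj hC h hx' q1 q2, Nat.beq_refl] at e1
    exact Bool.noConfusion e1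
  · simp only [Bool.and_eq_true, List.all_eq_true, List.mem_range] at e1
    obtain ⟨-, hw⟩ := e1
    have hwit := hw e he
    rw [witOK, Bool.and_eq_true, List.all_eq_true] at hwit
    obtain ⟨hvl, hpt⟩ := hwit
    set v := (L.2.2.getD e (0, [])).2
    set k := (L.2.2.getD e (0, [])).1
    have hvl' : ∀ t ∈ v, t < 3510 := fun t ht => Nat.le_of_ble_eq_true (hvl t ht)
    obtain ⟨T, hT, hTg⟩ : ∃ T : MulAut G, PMap a d δ T (tgtPt k) ∧ ∀ t, IsConj t T → Goal a d δ s t := by
      unfold tgtPt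
      cases hk0 : Nat.beq k 0
      · cases hk1 : Nat.beq k 1
        · exact ⟨_, pmap_r2 hC h hs, fun t ht => Or.inr (Or.inr ht)⟩
        · exact ⟨_, pmap_r1 hC h hs, fun t ht => Or.inr (Or.inl ht)⟩
      · exact ⟨_, hs, fun t ht => Or.inl ht⟩
    refine hTg _ (IsConj.symm (isConj_iff.2 ⟨MulAut.conj ((v.map (name a d δ)).prod), ?_⟩))
    have hpts : ∀ t ∈ wPts (repW r) ++ (cenPts e ++ kerPts bb), t < 3510 := by
      intro t ht
      rcases List.mem_append.1 ht with ht | ht
      · exact (wPts_ok hC h hrw t ht).1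
      · exact (kPts_ok hC h bb e t ht).1
    have hlhs := ((pmap_prod hC h hvl').mul hT).mul (pmap_rev hC h hvl')
    have hrhs := hs.mul (pmap_prod hC h hpts)
    have heq' : ((wPts (repW r) ++ (cenPts e ++ kerPts bb)).map (name a d δ)).prod = W * kEl a d δ bb e := by
      rw [List.map_append, List.prod_append]
      rfl
    rw [heq'] at hrhs
    exact hlhs.ext hC h hrhs (List.all_eq_true.2 fun x hx => by
      rw [Nat.eq_of_beq_eq_true (List.all_eq_true.1 hpt x hx)]
      exact Nat.beq_refl _)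

/-- An involution fixing the two transpositions and the key. -/
theorem goal_key {s : MulAut G} (hs : PMap a d δ s sPt) (h2 : s * s = 1)
    (hpres : ∀ (α : MulAut G) (x : G), α x ∈ D ↔ x ∈ D) (hcore : Core22 G D)
    {g : G} (hg : g ∈ keyFix a d δ) (hinv : (s * MulAut.conj g) * (s * MulAut.conj g) = 1) :
    Goal a d δ s (s * MulAut.conj g) := by
  obtain ⟨hsAB, hsX, hsK⟩ := sigma_AB hC h hs hpres
  obtain ⟨i, bb, e, hi, -, -, rfl⟩ := exists_decomp hC h hcore hg
  have hwc := words_check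
  simp only [Bool.and_eq_true, List.all_eq_true, List.mem_range, Nat.blt_eq] at hwc
  obtain ⟨⟨⟨⟨⟨⟨⟨hlen, -⟩, -⟩, hsw⟩, -⟩, -⟩, -⟩, -⟩ := hwc
  have hi' : i < stabW.length := by rw [Nat.eq_of_beq_eq_true hlen]; exact hi
  have hwl : ∀ j ∈ stabW.getD i [], j < 45 := by
    rw [List.getD_eq_getElem _ _ hi']; exact (hsw _ (List.getElem_mem hi')).1
  set w := stabW.getD i [] with hwdef
  obtain ⟨m1, -, m3⟩ := wEl_maps hC h hwl
  obtain ⟨n1, -, n3⟩ := kEl_maps hC h bb e
  set g := wEl a d δ w * kEl a d δ bb e with hgdef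
  have hgH : g ∈ hGrp a d δ := mul_mem m1 n1
  have htAB : AB D a d δ (s * MulAut.conj g) := hsAB.mul (ab_conj hC h hgH)
  have hgK : KMap a d δ (MulAut.conj g) (fun j => wK w j) := by
    rw [hgdef, map_mul]
    exact m3.mul hC h n3 (ab_conj hC h n1)
  have htK : KMap a d δ (s * MulAut.conj g) (tauK w) := hsK.mul hC h hgK (ab_conj hC h hgH)
  have hcc := class_check
  rw [Bool.and_eq_true, List.all_eq_true] at hcc
  obtain ⟨p, hp, hpw⟩ : ∃ p ∈ stabW.zip stabC, p.1 = w := by
    have : w ∈ (stabW.zip stabC).map Prod.fst := by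
      rw [List.map_fst_zip (le_of_eq (Nat.eq_of_beq_eq_true hcc.1).symm), hwdef, List.getD_eq_getElem _ _ hi']
      exact List.getElem_mem hi'
    obtain ⟨p, hp, ep⟩ := List.mem_map.1 this
    exact ⟨p, hp, ep⟩
  have hcl := hcc.2 p hp
  rw [hpw, classOK] at hcl
  cases h0 : Nat.beq p.2.1 0
  · rw [h0, cond_false] at hcl
    simp only [Bool.and_eq_true, Bool.or_eq_true, List.all_eq_true, List.mem_range, Nat.blt_eq] at hcl
    obtain ⟨⟨hr, hcw⟩, hperm⟩ := hcl
    have hr' : p.2.1 = 1 ∨ p.2.1 = 2 := hr.imp Nat.eq_of_beq_eq_true Nat.eq_of_beq_eq_true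
    have hrev : ∀ j ∈ p.2.2.reverse, j < 45 := fun j hj => hcw j (List.mem_reverse.1 hj)
    obtain ⟨v1, -, v3⟩ := wEl_maps hC h hcw
    obtain ⟨r1, -, r3⟩ := wEl_maps hC h hrev
    set V := wEl a d δ p.2.2 with hVdef
    have hrevV : wEl a d δ p.2.2.reverse = V⁻¹ := by
      have hpts := wPts_ok hC h hcw
      have := pmap_rev hC h (l := wPts p.2.2) fun t ht => (hpts t ht).1
      rw [hVdef]
      unfold wEl wPts
      rw [List.map_reverse]
      refine (eq_inv_of_mul_eq_one_left ?_).trans rfl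
      show ((((wPts p.2.2).reverse).map (name a d δ)).prod) * ((wPts p.2.2).map (name a d δ)).prod = 1
      generalize wPts p.2.2 = l at hpts
      induction l with
      | nil => simp
      | cons x l ih =>
        rw [List.reverse_cons, List.map_append, List.prod_append, List.map_singleton, List.prod_singleton,
          List.map_cons, List.prod_cons, mul_assoc, ← mul_assoc (name a d δ x), sq h.tt
          (name_mem hC h (hpts x List.mem_cons_self).1), one_mul]
        exact ih fun t ht => hpts t (List.mem_cons_of_mem _ ht)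
    rw [hrevV] at r1 r3
    set g2 := s V * g * V⁻¹ with hg2
    have hconj : MulAut.conj V * (s * MulAut.conj g) * (MulAut.conj V)⁻¹ = s * MulAut.conj g2 := by
      refine MulEquiv.ext fun x => ?_
      have hss : s (s V) = V := DFunLike.congr_fun h2 V
      simp only [MulAut.mul_apply, MulAut.conj_apply, MulAut.conj_inv_apply, hg2, map_mul, map_inv, mul_inv_rev,
        inv_inv, hss]
    have hsV : s V ∈ hGrp a d δ := by
      refine hGrp_of_ab hC h ?_
      rw [← Out22.aut_conj s V]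
      exact (hsAB.mul (ab_conj hC h v1)).mul hsAB.inv
    have hg2H : g2 ∈ hGrp a d δ := mul_mem (mul_mem hsV hgH) (inv_mem v1)
    have hg2inv : (s * MulAut.conj g2) * (s * MulAut.conj g2) = 1 := by
      rw [← hconj, show MulAut.conj V * (s * MulAut.conj g) * (MulAut.conj V)⁻¹ *
        (MulAut.conj V * (s * MulAut.conj g) * (MulAut.conj V)⁻¹) =
        MulAut.conj V * ((s * MulAut.conj g) * (s * MulAut.conj g)) * (MulAut.conj V)⁻¹ by group, hinv, mul_one,
        mul_inv_cancel]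
    refine Goal.of_conj (isConj_iff.2 ⟨MulAut.conj V, hconj⟩)
      (goal_rep hC h hs h2 hpres hcore hr' hg2H hg2inv fun k hk j hj => ?_)
    have hAB2 : AB D a d δ (s * MulAut.conj g2) := hsAB.mul (ab_conj hC h hg2H)
    have hall : KMap a d δ (s * MulAut.conj g2) (fun j => wK p.2.2 (tauK w (wK p.2.2.reverse j))) := by
      rw [← hconj, ← map_inv]
      exact (v3.mul hC h htK htAB).mul hC h r3 (ab_conj hC h r1)
    rw [KMap.unique hC h hk hall hAB2 hj]
    exact Nat.eq_of_beq_eq_true (hperm j hj)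
  · rw [h0, cond_true] at hcl
    exfalso
    obtain ⟨j, hj, hjb⟩ := List.any_eq_true.1 hcl
    have h1 := htK.mul hC h htK htAB
    rw [hinv] at h1
    have := KMap.unique hC h h1 (kmap_one hC h) ⟨fun x => Iff.rfl, rfl, rfl⟩ (List.mem_range.1 hj)
    rw [this, Nat.beq_refl] at hjb
    exact Bool.noConfusion hjb

/-- Every outer involution is conjugate to one of the three. -/
theorem outer_classes {s : MulAut G} (hs : PMap a d δ s sPt) (h2 : s * s = 1)
    (hso : s ∉ (MulAut.conj : G →* MulAut G).range)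
    (hpres : ∀ (α : MulAut G) (x : G), α x ∈ D ↔ x ∈ D) (hcore : Core22 G D) {t : MulAut G}
    (ht2 : t * t = 1) (hto : t ∉ (MulAut.conj : G →* MulAut G).range) : Goal a d δ s t := by
  classical
  have key : ∀ (t t' : MulAut G) (c : G), t' = MulAut.conj c * t * (MulAut.conj c)⁻¹ →
      t * t = 1 → t ∉ (MulAut.conj : G →* MulAut G).range →
      t' * t' = 1 ∧ t' ∉ (MulAut.conj : G →* MulAut G).range ∧ IsConj t t' := by
    intro t t' c e ht hn
    refine ⟨?_, fun ⟨q, hq⟩ => hn ⟨c⁻¹ * q * c, ?_⟩, isConj_iff.2 ⟨_, e.symm⟩⟩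
    · rw [e, show MulAut.conj c * t * (MulAut.conj c)⁻¹ * (MulAut.conj c * t * (MulAut.conj c)⁻¹) =
        MulAut.conj c * (t * t) * (MulAut.conj c)⁻¹ by group, ht, mul_one, mul_inv_cancel]
    · rw [map_mul, map_mul, map_inv, hq, e]
      group
  -- a fixed transposition
  obtain ⟨d0, hd0, hfix⟩ := auto_fixes hC t (fun x hx => (hpres t x).2 hx) (fun x => DFunLike.congr_fun ht2 x) h.mema
  obtain ⟨c, hc⟩ := hC.one d0 hd0 a h.mema
  obtain ⟨t1sq, t1o, t1c⟩ := key t _ c rfl ht2 hto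
  set t1 := MulAut.conj c * t * (MulAut.conj c)⁻¹ with ht1
  have t1a : t1 a = a := by
    simp only [ht1, MulAut.mul_apply, MulAut.conj_inv_apply, MulAut.conj_apply]
    rw [← hc, show c⁻¹ * (c * d0 * c⁻¹) * c = d0 by group, hfix]
  -- a fixed neighbour
  have hnbmap : ∀ x : nb D a, t1 x ∈ nb D a := fun ⟨x, hx1, hx2, hx3⟩ =>
    ⟨(hpres t1 x).2 hx1, fun e => hx2 (t1.injective (e.trans t1a.symm)), by
      have := hx3.map t1.toMonoidHom
      rwa [MulEquiv.coe_toMonoidHom, t1a] at this⟩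
  obtain ⟨y, hy, t1y⟩ : ∃ y ∈ nb D a, t1 y = y := by
    have := Fintype.ofFinite (nb D a)
    let f : Equiv.Perm (nb D a) :=
      ⟨fun x => ⟨t1 x, hnbmap x⟩, fun x => ⟨t1 x, hnbmap x⟩, fun x => Subtype.ext (DFunLike.congr_fun t1sq _),
        fun x => Subtype.ext (DFunLike.congr_fun t1sq _)⟩
    have hodd : ¬ 2 ∣ Fintype.card (nb D a) := by
      rw [← Nat.card_eq_fintype_card, Nat.card_coe_set_eq, (lay22 hC h.mema).card_nb a h.mema]
      norm_num
    have := Fact.mk Nat.prime_two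
    obtain ⟨x, hx⟩ := Equiv.Perm.exists_fixed_point_of_prime hodd (σ := f) (n := 1) (by
      rw [pow_one, pow_two]
      exact Equiv.ext fun x => Subtype.ext (DFunLike.congr_fun t1sq _))
    exact ⟨x, x.2, congrArg Subtype.val hx⟩
  obtain ⟨g0, hg0a, hg0⟩ : ∃ g0, g0 * a * g0⁻¹ = a ∧ g0 * y * g0⁻¹ = bEl a d δ := by
    obtain ⟨u, hu, rfl⟩ := exists_name hC h hy.1
    have hoc := orb_check
    rw [Bool.and_eq_true, List.all_eq_true] at hoc
    have horb : ∀ (L : List ℕ) (seen : ℕ), orbOK L seen = true →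
        (∀ v, seen.testBit v = true → v < 3510 ∧ ∃ g, g * a * g⁻¹ = a ∧ g * bEl a d δ * g⁻¹ = name a d δ v) →
        ∃ g, g * a * g⁻¹ = a ∧ g * bEl a d δ * g⁻¹ = name a d δ u := by
      intro L
      induction L with
      | nil =>
        intro seen hok hs'
        have := List.all_eq_true.1 hok u (List.mem_range.2 hu)
        have hc0 : comB 0 u = true := (commute_iff hC h (by norm_num) hu).1 (by rw [name_zero hC h]; exact hy.2.2)
        rw [hc0, Bool.or_eq_true, Bool.not_eq_true', Bool.true_and, Bool.not_eq_false'] at this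
        rcases this with e | e
        · exact absurd (by rw [Nat.eq_of_beq_eq_true e, name_zero hC h]) hy.2.1
        · exact (hs' u e).2
      | cons e L ih =>
        intro seen hok hs'
        simp only [orbOK, Bool.and_eq_true, Nat.blt_eq] at hok
        obtain ⟨⟨⟨⟨o1, o2⟩, o3⟩, o4⟩, o5⟩ := hok
        refine ih _ o5 fun v hv => ?_
        rw [show Nat.lor seen (Nat.shiftLeft 1 (e / 16 / 4096)) = seen ||| 1 <<< (e / 16 / 4096) from rfl,
          Nat.testBit_or, Nat.one_shiftLeft, Nat.testBit_two_pow, Bool.or_eq_true, decide_eq_true_eq] at hv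
        rcases hv with hv | rfl
        · exact hs' v hv
        obtain ⟨hx, g, hga, eg⟩ := hs' _ o2
        have h0 := (gt_spec hC h (i := e % 16) (by omega) (show 0 < 3510 by norm_num)).2
        rw [Nat.eq_of_beq_eq_true (hoc.1 (e % 16) (List.mem_range.2 o1)), name_zero hC h] at h0
        refine ⟨o3, gen d δ (e % 16) * g, ?_, ?_⟩
        · rw [show gen d δ (e % 16) * g * a * (gen d δ (e % 16) * g)⁻¹ =
            gen d δ (e % 16) * (g * a * g⁻¹) * (gen d δ (e % 16))⁻¹ by group, hga, h0]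
        · rw [show gen d δ (e % 16) * g * bEl a d δ * (gen d δ (e % 16) * g)⁻¹ =
            gen d δ (e % 16) * (g * bEl a d δ * g⁻¹) * (gen d δ (e % 16))⁻¹ by group, eg,
            (gt_spec hC h (i := e % 16) (by omega) hx).2, Nat.eq_of_beq_eq_true o4]
    obtain ⟨g, g1, g2⟩ := horb orbB _ hoc.2 fun v hv => by
      rw [show Nat.shiftLeft 1 ptB = 1 <<< ptB from rfl, Nat.one_shiftLeft, Nat.testBit_two_pow,
        decide_eq_true_eq] at hv
      subst hv
      exact ⟨sPt_fix.2.2.1, 1, by group, by rw [one_mul, inv_one, mul_one]; rfl⟩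
    refine ⟨g⁻¹, ?_, ?_⟩
    · refine (congrArg (fun z => g⁻¹ * z * g⁻¹⁻¹) g1.symm).trans ?_
      group
    · rw [← g2]; group
  obtain ⟨t2sq, t2o, t2c⟩ := key t1 _ g0 rfl t1sq t1o
  set t2 := MulAut.conj g0 * t1 * (MulAut.conj g0)⁻¹ with ht2'
  have t2a : t2 a = a := by
    simp only [ht2', MulAut.mul_apply, MulAut.conj_inv_apply, MulAut.conj_apply]
    have e : g0⁻¹ * a * g0 = a := (congrArg (fun z => g0⁻¹ * z * g0) hg0a.symm).trans (by group)
    rw [e, t1a, hg0a]
  have t2b : t2 (bEl a d δ) = bEl a d δ := by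
    simp only [ht2', MulAut.mul_apply, MulAut.conj_inv_apply, MulAut.conj_apply]
    rw [← hg0, show g0⁻¹ * (g0 * y * g0⁻¹) * g0 = y by group, t1y]
  obtain ⟨hsAB, -, -⟩ := sigma_AB hC h hs hpres
  have ht2AB : AB D a d δ t2 := ⟨hpres t2, t2a, t2b⟩
  -- a fixed key
  obtain ⟨f, hf⟩ := exists_xmap hC h ht2AB
  have hk := hf.kmap hC h
  let τ : Fin 45 → Fin 45 := fun j => ⟨kidX (f (repX j)), hk.lt hC h ht2AB j.2⟩
  have hττ : ∀ j, τ (τ j) = j := fun j => by
    have h1 := hk.mul hC h hk ht2AB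
    rw [t2sq] at h1
    exact Fin.ext (KMap.unique hC h h1 (kmap_one hC h) ⟨fun x => Iff.rfl, rfl, rfl⟩ j.2)
  obtain ⟨j, hj⟩ : ∃ j, τ j = j := by
    have := Fact.mk Nat.prime_two
    obtain ⟨x, hx⟩ := Equiv.Perm.exists_fixed_point_of_prime (α := Fin 45) (p := 2) (n := 1) (by simp)
      (σ := ⟨τ, τ, hττ, hττ⟩) (by rw [pow_one, pow_two]; exact Equiv.ext hττ)
    exact ⟨x, hx⟩
  have hwc := words_check
  simp only [Bool.and_eq_true, List.all_eq_true, List.mem_range, Nat.blt_eq] at hwc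
  obtain ⟨⟨⟨⟨-, htk⟩, -⟩, -⟩, hk45⟩ := hwc
  obtain ⟨tk1, tk2⟩ := htk j j.2
  obtain ⟨u1, -, u3⟩ := wEl_maps hC h tk1
  set U := wEl a d δ (toKey.getD j []) with hU
  obtain ⟨t3sq, t3o, t3c⟩ := key t2 _ U⁻¹ rfl t2sq t2o
  set t3 := MulAut.conj U⁻¹ * t2 * (MulAut.conj U⁻¹)⁻¹ with ht3
  have e3 : t3 = MulAut.conj U⁻¹ * (t2 * MulAut.conj U) := by
    rw [ht3, ← map_inv, inv_inv, mul_assoc]
  have hUAB := ab_conj hC h u1
  have hUiAB := ab_conj hC h (inv_mem u1)
  have t3AB : AB D a d δ t3 := e3 ▸ hUiAB.mul (ht2AB.mul hUAB)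
  -- it is the representative times an element fixing the key
  have hinner : ∃ q, MulAut.conj q = s * t3 := by
    have := two_outer22 hC h.mema (α := s) (β := t3) (hpres s) (hpres t3) (fun ⟨q, hq⟩ => hso ⟨q, hq⟩)
      (fun ⟨q, hq⟩ => t3o ⟨q, hq⟩)
    rwa [inv_eq_of_mul_eq_one_right t3sq] at this
  obtain ⟨q, hq⟩ := hinner
  have e4 : t3 = s * MulAut.conj q := by rw [hq, ← mul_assoc, h2, one_mul]
  have hqH : q ∈ hGrp a d δ := hGrp_of_ab hC h (hq ▸ hsAB.mul t3AB)
  refine Goal.of_conj (t1c.trans (t2c.trans t3c)) ?_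
  rw [e4]
  refine goal_key hC h hs h2 hpres hcore ⟨hqH, ?_⟩ (e4 ▸ t3sq)
  obtain ⟨fu, hfu⟩ := exists_xmap hC h hUiAB
  have hku := hfu.kmap hC h
  have hq3 : KMap a d δ t3 (fun i => kidX (fu (repX (kidX (f (repX (wK (toKey.getD j []) i))))))) :=
    e3 ▸ hku.mul hC h (hk.mul hC h u3 hUAB) (ht2AB.mul hUAB)
  obtain ⟨-, -, hsK⟩ := sigma_AB hC h hs hpres
  refine ⟨_, hq ▸ hsK.mul hC h hq3 t3AB, ?_⟩
  have hu0 := Nat.eq_of_beq_eq_true tk2
  have hfix0 : kidX (f (repX j)) = (j : ℕ) := congrArg Fin.val hj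
  simp only [hu0, hfix0]
  have h1 := hku.mul hC h u3 hUAB
  rw [← map_mul, inv_mul_cancel, map_one] at h1
  have h5 := KMap.unique hC h h1 (kmap_one hC h) ⟨fun x => Iff.rfl, rfl, rfl⟩ hk45
  simp only [hu0] at h5
  rw [h5]
  decide +kernel

end Cfsg.Agent.TT95.Inv22
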