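import Cfsg.Agent.TT95.Inv22.Fix
import Cfsg.Agent.TT95.Inv22.Targets

/-!
Type M(22): the certificate for the fixed transpositions of the third involution.
-/

set_option autoImplicit false
set_option linter.unusedSectionVars false

namespace Cfsg.Agent.TT95.Inv22

open Cfsg.Agent.TT95.Uni22 Cfsg.Agent.TT95.Calc

theorem fixR_check : fixOK r2Pt selR pairsR (unpack 76 3510 sortedR) rootR (unpack 24 linkNR linksR) = true := by
  decide +kernel

theorem r2Pt_count : ((List.range 3510).countP fun t => Nat.beq (r2Pt t) t) + 2 * 1719 = 3510 := by decide +kernel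

theorem selR_sub : (selR.all fun x => ptF2.contains x) = true := by decide +kernel

variable {G : Type*} [Group G] [Finite G] {D : Set G} (hC : Cfg22 D) [Gen D] {a d : G} {δ : ℕ → G}
  (h : Std D a d δ)

include hC h

/-- An element commuting with the 72 fixed transpositions is trivial. -/
theorem trivial_of_seventyTwo {s : MulAut G} (hs : PMap a d δ s sPt) (h2 : s * s = 1) {g : G}
    (hg : ∀ x ∈ ptF2, Commute g (name a d δ x)) : g = 1 :=
  fix_trivial hC h fixR_check (pmap_r2 hC h hs)
    (fun _ => pmap_invol hC h (pmap_r2 hC h hs) (r2_sq hC h hs h2)) (m := 1719) (by decide) r2Pt_count fun x hx =>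
    hg x (List.contains_iff_mem.1 (List.all_eq_true.1 selR_sub x hx))

end Cfsg.Agent.TT95.Inv22
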