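import Cfsg.Agent.TT95.Inv22.Classes
import Cfsg.Agent.TT95.PairQuot
import Cfsg.Agent.S0817

/-!
Type M(22): the centraliser of the outer involution is the automorphism group of the orthogonal group of
plus type in dimension eight.
-/

set_option autoImplicit false
set_option linter.unusedSectionVars false

namespace Cfsg.Agent.TT95.Inv22

open Cfsg.Agent.TT95.Uni22 Cfsg.Agent.TT95.Calc QuadraticMap Cfsg.Agent.OrthCohom Cfsg.Agent.Reflections
open scoped commutatorElement

theorem mid_check : (ptE.all fun e => comB 0 e == false ||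
    codE.any fun w => bilB (qmPlus 4) (cOf ptE codE 0) w && bilB (qmPlus 4) w (cOf ptE codE e)) = true := by
  decide +kernel

theorem tri_check : (Nat.beq ptE.length triE.length && (ptE.zip triE).all fun p =>
    inE p.2.1 && inE p.2.2 && !Nat.beq p.1 p.2.1 && !Nat.beq p.1 p.2.2 && !Nat.beq p.2.1 p.2.2 &&
      comB p.1 p.2.1 && comB p.1 p.2.2) = true := by
  decide +kernel

variable {G : Type*} [Group G] [Finite G] {D : Set G} (hC : Cfg22 D) [Gen D] {a d : G} {δ : ℕ → G}
  (h : Std D a d δ)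

/-- The normal subgroup of index six. -/
def lSub (a d : G) (δ : ℕ → G) : Subgroup G :=
  (commutator ↥(stabSet (classE a d δ))).map (stabSet (classE a d δ)).subtype

include hC h

theorem lSub_iff (θ : stabSet (classE a d δ) ≃* O8p) {g : G} :
    g ∈ lSub a d δ ↔ ∃ hg : g ∈ stabSet (classE a d δ), θ ⟨g, hg⟩ ∈ commutator O8p := by
  have hmap : (commutator ↥(stabSet (classE a d δ))).map θ.toMonoidHom = commutator O8p := by
    rw [commutator_def, commutator_def, Subgroup.map_commutator,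
      Subgroup.map_top_of_surjective _ θ.surjective]
  constructor
  · rintro ⟨x, hx, rfl⟩
    exact ⟨x.2, hmap ▸ ⟨x, hx, rfl⟩⟩
  · rintro ⟨hg, e⟩
    rw [← hmap] at e
    obtain ⟨x, hx, ex⟩ := e
    obtain rfl : x = ⟨g, hg⟩ := θ.injective ex
    exact ⟨_, hx, rfl⟩

theorem delta_facts {s : MulAut G} (hs : PMap a d δ s sPt) :
    s (name a d δ ptD2) = name a d δ ptD2 ∧ s (name a d δ ptD3) = name a d δ ptD3 ∧
      name a d δ ptD2 ∈ D ∧ name a d δ ptD3 ∈ D ∧
      name a d δ ptD2 ∉ stabSet (classE a d δ) ∧ name a d δ ptD3 ∉ stabSet (classE a d δ) ∧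
      name a d δ ptD2 * name a d δ ptD3 ∉ stabSet (classE a d δ) := by
  have hm := moves_check
  simp only [Bool.and_eq_true, Nat.blt_eq, Bool.not_eq_true'] at hm
  obtain ⟨⟨⟨⟨⟨⟨⟨h2, h3⟩, s2⟩, s3⟩, n2⟩, n3⟩, n23⟩, -⟩ := hm
  have out : ∀ {g : G} {u : ℕ}, u < 3510 → g * a * g⁻¹ = name a d δ u → inE u = false →
      g ∉ stabSet (classE a d δ) := by
    intro g u hu e hn hg
    obtain ⟨t, ht, et⟩ := (hg a).2 (a_mem_classE hC h)
    obtain rfl : t = u := name_inj hC h (ptE_lt hC h ht) hu (et.trans e)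
    rw [inE_iff.2 ht] at hn
    exact Bool.noConfusion hn
  have e0 := (pmap_name hC h h2) 0 (by norm_num)
  have e1 := (pmap_name hC h h3) 0 (by norm_num)
  rw [name_zero hC h, MulAut.conj_apply] at e0 e1
  have e2 := (pmap_name hC h h2) _ e1.1
  rw [MulAut.conj_apply] at e2
  refine ⟨by rw [(hs _ h2).2, Nat.eq_of_beq_eq_true s2], by rw [(hs _ h3).2, Nat.eq_of_beq_eq_true s3],
    name_mem hC h h2, name_mem hC h h3, out e0.1 e0.2 n2, out e1.1 e1.2 n3, out e2.1 ?_ n23⟩
  rw [← e2.2, ← e1.2]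
  group

theorem exists_coset {s : MulAut G} (hs : PMap a d δ s sPt) {g : G} (hg : s g = g) :
    g ∈ stabSet (classE a d δ) ∨ name a d δ ptD2 * g ∈ stabSet (classE a d δ) ∨
      name a d δ ptD3 * g ∈ stabSet (classE a d δ) := by
  obtain ⟨u, hu, eu⟩ := exists_name hC h (conj_mem hC.tt g h.mema)
  obtain ⟨s2, s3, m2, m3, -⟩ := delta_facts hC h hs
  have hm := moves_check
  simp only [Bool.and_eq_true, Nat.blt_eq] at hm
  have hfix : sPt u = u := by
    refine name_inj hC h (sPt_lt hu) hu ?_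
    rw [← (hs u hu).2, eu, map_mul, map_mul, map_inv, hg, (sigma_fix hC h hs).1]
  have hcl := List.all_eq_true.1 classes_check u (List.mem_range.2 hu)
  rw [hfix, Nat.beq_refl] at hcl
  simp only [Bool.not_true, Bool.false_or, Bool.or_eq_true] at hcl
  have key : ∀ p, p < 3510 → s (name a d δ p) = name a d δ p → inE (mv p u) = true →
      name a d δ p * g ∈ stabSet (classE a d δ) := fun p hp hsp hin => by
    refine mem_stab_of_point hC h hs (by rw [map_mul, hsp, hg]) (a_mem_classE hC h) ⟨mv p u, inE_iff.1 hin, ?_⟩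
    rw [← mv_conj hC h hp hu, eu]
    group
  rcases hcl with (e | e) | e
  · exact Or.inl (mem_stab_of_point hC h hs hg (a_mem_classE hC h) ⟨u, inE_iff.1 e, eu⟩)
  · exact Or.inr (Or.inl (key _ hm.1.1.1.1.1.1.1 s2 e))
  · exact Or.inr (Or.inr (key _ hm.1.1.1.1.1.1.2 s3 e))

theorem card_fixSub {s : MulAut G} (hs : PMap a d δ s sPt) :
    Nat.card (fixSub s) = 3 * Nat.card (stabSet (classE a d δ)) := by
  obtain ⟨s2, s3, m2, m3, n2, n3, n23⟩ := delta_facts hC h hs
  set K := stabSet (classE a d δ) with hK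
  let δs : Fin 3 → G := ![1, name a d δ ptD2, name a d δ ptD3]
  have hδ : ∀ i, δs i * δs i = 1 := by
    intro i; fin_cases i
    exacts [one_mul 1, sq hC.tt m2, sq hC.tt m3]
  have hδs : ∀ i, s (δs i) = δs i := by
    intro i; fin_cases i
    exacts [map_one s, s2, s3]
  have hout : ∀ i j, i ≠ j → δs i * δs j ∉ K := by
    have n32 : name a d δ ptD3 * name a d δ ptD2 ∉ K := fun e => n23 (by
      have := K.inv_mem e
      rwa [mul_inv_rev, inv_eq hC.tt m2, inv_eq hC.tt m3] at this)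
    intro i j hij
    fin_cases i <;> fin_cases j <;> simp [δs] at hij ⊢
    exacts [n2, n3, n2, n23, n3, n32]
  have hle := stab_le_fix hC h hs
  let f : Fin 3 × K → fixSub s := fun p => ⟨δs p.1 * p.2, by
    rw [mem_fixSub, map_mul, hδs, show s (p.2 : G) = p.2 from hle p.2.2]⟩
  have hbij : Function.Bijective f := by
    constructor
    · rintro ⟨i, x⟩ ⟨j, y⟩ e
      have e' : δs i * (x : G) = δs j * y := congrArg Subtype.val e
      by_cases hij : i = j
      · subst hij
        rw [Subtype.ext (mul_left_cancel e' : (x : G) = y)]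
      · refine absurd ?_ (hout j i (Ne.symm hij))
        have hx : δs j * δs i = (y : G) * (x : G)⁻¹ :=
          calc δs j * δs i = δs j * (δs i * x) * (x : G)⁻¹ := by group
            _ = (δs j * δs j) * y * (x : G)⁻¹ := by rw [e']; group
            _ = y * (x : G)⁻¹ := by rw [hδ, one_mul]
        rw [hx]
        exact K.mul_mem y.2 (K.inv_mem x.2)
    · rintro ⟨g, hg⟩
      have key : ∀ i, δs i * g ∈ K → ∃ p, f p = ⟨g, hg⟩ := fun i hi =>
        ⟨(i, ⟨_, hi⟩), Subtype.ext (by show δs i * (δs i * g) = g; rw [← mul_assoc, hδ, one_mul])⟩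
      rcases exists_coset hC h hs hg with e | e | e
      exacts [key 0 (by simpa [δs] using e), key 1 e, key 2 e]
  rw [← Nat.card_eq_of_bijective f hbij, Nat.card_prod, Nat.card_eq_fintype_card, Fintype.card_fin]

/-- Conjugation by the two outside members preserves a subgroup of the stabiliser. -/
def both (a d : G) (δ : ℕ → G) : Subgroup G :=
  stabSet (classE a d δ) ⊓ (stabSet (classE a d δ)).comap (MulAut.conj (name a d δ ptD2)).toMonoidHom ⊓
    (stabSet (classE a d δ)).comap (MulAut.conj (name a d δ ptD3)).toMonoidHom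

theorem lSub_facts {s : MulAut G} (hs : PMap a d δ s sPt) :
    (∀ x ∈ classE a d δ, ∀ y ∈ classE a d δ, x * y ∈ lSub a d δ) ∧ a ∉ lSub a d δ ∧
      (∀ g ∈ stabSet (classE a d δ), g ∈ lSub a d δ ∨ g * a ∈ lSub a d δ) ∧
      ∀ g, s g = g → ∀ x ∈ lSub a d δ, g * x * g⁻¹ ∈ lSub a d δ := by
  set K := stabSet (classE a d δ) with hK
  obtain ⟨θ, hθ, hrefl, honto⟩ := exists_thetaE hC h hs
  obtain ⟨s2, s3, m2, m3, n2, n3, -⟩ := delta_facts hC h hs
  have haE := a_mem_classE hC h
  have hmemK : ∀ x ∈ classE a d δ, x ∈ K := fun x hx => (hrefl x hx).1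
  have hsq : ∀ x ∈ classE a d δ, x * x = 1 := by
    rintro _ ⟨t, ht, rfl⟩
    exact sq hC.tt (name_mem hC h (ptE_lt hC h ht))
  have hclassD : ∀ x ∈ classE a d δ, x ∈ D := by
    rintro _ ⟨t, ht, rfl⟩
    exact name_mem hC h (ptE_lt hC h ht)
  -- products of two members of the class are commutators
  have hnc : ∀ x ∈ classE a d δ, ∀ y ∈ classE a d δ, ¬ Commute x y → x * y ∈ lSub a d δ := by
    intro x hx y hy hn
    refine ⟨⁅(⟨x, hmemK x hx⟩ : K), ⟨x, hmemK x hx⟩ * ⟨y, hmemK y hy⟩⁆, Subgroup.commutator_mem_commutator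
      (Subgroup.mem_top _) (Subgroup.mem_top _), ?_⟩
    show x * (x * y) * x⁻¹ * (x * y)⁻¹ = x * y
    rw [mul_inv_rev, inv_eq hC.tt (hclassD x hx), inv_eq hC.tt (hclassD y hy)]
    calc x * (x * y) * x * (y * x) = x * ((x * y * x) * y * x) := by group
      _ = x * (y * x * y * y * x) := by rw [braid hC.tt (hclassD x hx) (hclassD y hy) hn]
      _ = x * (y * x * (y * y) * x) := by group
      _ = x * y := by rw [hsq y hy, mul_one, mul_assoc y x x, hsq x hx, mul_one]
  have haz : ∀ x ∈ classE a d δ, a * x ∈ lSub a d δ := by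
    intro x hx
    by_cases hcm : Commute a x
    · obtain ⟨t, ht, rfl⟩ := hx
      have hlt := ptE_lt hC h ht
      have hc := List.all_eq_true.1 mid_check t ht
      rw [Bool.or_eq_true, beq_iff_eq] at hc
      have hb : comB 0 t = true := (commute_iff hC h (by norm_num) hlt).1 (by rwa [name_zero hC h])
      rw [hb] at hc
      obtain ⟨w, hw, hwb⟩ := List.any_eq_true.1 (hc.resolve_left (by simp))
      rw [Bool.and_eq_true] at hwb
      obtain ⟨hpt, -, hcoord, -⟩ := frame_spec hC h e8 frameE_check (B := q8.polarBilin)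
        (fun _ _ hu hv => coded8.polar_vec hu hv) (fun v => (nondegenerate_of_table coded8 nondeg8_ok).1 v)
      obtain ⟨u, hu, eu⟩ : ∃ u ∈ ptE, cOf ptE codE u = w := by
        have hl : ptE.length = codE.length := by decide +kernel
        have : w ∈ (ptE.zip codE).map Prod.snd := by rw [List.map_snd_zip (le_of_eq hl.symm)]; exact hw
        obtain ⟨q, hq, eq⟩ := List.mem_map.1 this
        have hf := frameE_check
        simp only [frameOK, Bool.and_eq_true, List.all_eq_true] at hf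
        exact ⟨q.1, (List.of_mem_zip hq).1, (Nat.eq_of_beq_eq_true (hf.1.1.2 q hq).2).trans eq⟩
      subst eu
      have hne : ∀ {p r : ℕ}, p ∈ ptE → r ∈ ptE → bilB (qmPlus 4) (cOf ptE codE p) (cOf ptE codE r) = true →
          ¬ Commute (name a d δ p) (name a d δ r) := fun {p r} hp hr hb hc => by
        have := (hcoord.comm _ ⟨p, hp, rfl⟩ _ ⟨r, hr, rfl⟩).1 hc
        rw [cvec_name hC h e8 (hpt p hp).1, cvec_name hC h e8 (hpt r hr).1] at this
        have h2 := (coded8.polar_vec (hpt p hp).2.1 (hpt r hr).2.1).symm.trans this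
        rw [hb] at h2
        simp at h2
      have h0 : 0 ∈ ptE := by
        have hck := codE_check
        simp only [Bool.and_eq_true, List.contains_iff_mem] at hck
        exact hck.1.2
      have e1 := hnc _ ⟨0, h0, rfl⟩ _ ⟨u, hu, rfl⟩ (hne h0 hu hwb.1)
      have e2 := hnc _ ⟨u, hu, rfl⟩ _ ⟨t, ht, rfl⟩ (hne hu ht hwb.2)
      have := mul_mem e1 e2
      rwa [name_zero hC h, ← mul_assoc, mul_assoc a, hsq _ ⟨u, hu, rfl⟩, mul_one] at this
    · exact hnc a haE x hx hcm
  have hpairs : ∀ x ∈ classE a d δ, ∀ y ∈ classE a d δ, x * y ∈ lSub a d δ := by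
    intro x hx y hy
    have := mul_mem (inv_mem (haz x hx)) (haz y hy)
    rwa [mul_inv_rev, inv_eq hC.tt (hclassD x hx), inv_eq hC.tt h.mema, mul_assoc, ← mul_assoc a,
      sq hC.tt h.mema, one_mul] at this
  -- the two outside members
  have hm := moves_check
  simp only [Bool.and_eq_true, Nat.blt_eq, List.all_eq_true] at hm
  have hp2 : ptD2 < 3510 := hm.1.1.1.1.1.1.1
  have hp3 : ptD3 < 3510 := hm.1.1.1.1.1.1.2
  have hswap : ∀ (p q : ℕ) (hp : p < 3510) (hq : q < 3510), s (name a d δ p) = name a d δ p →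
      s (name a d δ q) = name a d δ q → (∀ t ∈ ptE, inE (mvs [q, p, t, p] 0) = true) →
      ∀ x ∈ classE a d δ, name a d δ q * (name a d δ p * x * name a d δ p) ∈ K := by
    intro p q hp hq sp sq' hchk x hx
    obtain ⟨t, ht, rfl⟩ := hx
    have hlt := ptE_lt hC h ht
    refine mem_stab_of_point hC h hs ?_ haE ⟨_, inE_iff.1 (hchk t ht), ?_⟩
    · rw [map_mul, map_mul, map_mul, sp, sq', sigma_fix_E hC h hs ⟨t, ht, rfl⟩]
    · have := ((pmap_prod hC h (l := [q, p, t, p]) (by simp [hp, hq, hlt])) 0 (by norm_num)).2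
      rw [name_zero hC h, MulAut.conj_apply] at this
      rw [← this]
      simp [mul_assoc]
  have hA : ∀ x ∈ classE a d δ, a * x ∈ both a d δ := by
    intro x hx
    refine ⟨⟨K.mul_mem (hmemK a haE) (hmemK x hx), ?_⟩, ?_⟩
    · have f1 := hswap ptD2 ptD3 hp2 hp3 s2 s3 (fun t ht => (hm.2 t ht).1)
      show name a d δ ptD2 * (a * x) * (name a d δ ptD2)⁻¹ ∈ K
      have := K.mul_mem (K.inv_mem (f1 a haE)) (f1 x hx)
      rw [mul_inv_rev, mul_inv_rev, mul_inv_rev, inv_eq hC.tt m2, inv_eq hC.tt m3, inv_eq hC.tt h.mema] at this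
      rw [inv_eq hC.tt m2]
      convert this using 1
      calc name a d δ ptD2 * (a * x) * name a d δ ptD2
          = name a d δ ptD2 * a * (name a d δ ptD2 * (name a d δ ptD3 * name a d δ ptD3) * name a d δ ptD2) * x *
              name a d δ ptD2 := by rw [sq hC.tt m3, mul_one, sq hC.tt m2]; group
        _ = _ := by group
    · have f1 := hswap ptD3 ptD2 hp3 hp2 s3 s2 (fun t ht => (hm.2 t ht).2)
      show name a d δ ptD3 * (a * x) * (name a d δ ptD3)⁻¹ ∈ K
      have := K.mul_mem (K.inv_mem (f1 a haE)) (f1 x hx)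
      rw [mul_inv_rev, mul_inv_rev, mul_inv_rev, inv_eq hC.tt m2, inv_eq hC.tt m3, inv_eq hC.tt h.mema] at this
      rw [inv_eq hC.tt m3]
      convert this using 1
      calc name a d δ ptD3 * (a * x) * name a d δ ptD3
          = name a d δ ptD3 * a * (name a d δ ptD3 * (name a d δ ptD2 * name a d δ ptD2) * name a d δ ptD3) * x *
              name a d δ ptD3 := by rw [sq hC.tt m2, mul_one, sq hC.tt m3]; group
        _ = _ := by group
  have hanot : a ∉ both a d δ := by
    rintro ⟨⟨-, e⟩, -⟩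
    have e' : name a d δ ptD2 * a * name a d δ ptD2 ∈ K := by
      have e2 : name a d δ ptD2 * a * (name a d δ ptD2)⁻¹ ∈ K := e
      rwa [inv_eq hC.tt m2] at e2
    have f1 := hswap ptD2 ptD3 hp2 hp3 s2 s3 (fun t ht => (hm.2 t ht).1) a haE
    refine n3 ?_
    have := K.mul_mem f1 (K.inv_mem e')
    rwa [mul_inv_cancel_right] at this
  have hLA : lSub a d δ ≤ both a d δ := by
    intro g hg
    obtain ⟨hgK, hθg⟩ := (lSub_iff hC h θ).1 hg
    obtain ⟨hxa, hqa, ea⟩ := hrefl a haE
    have hom : commutator O8p ≤ ((both a d δ).subgroupOf K).map θ.toMonoidHom := by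
      refine (omega_le_closure reflGroup_plus8 hqa).trans ((Subgroup.closure_le _).2 ?_)
      rintro _ ⟨v, hv, rfl⟩
      obtain ⟨x, hx, rfl⟩ := honto v hv
      obtain ⟨hxx, -, ex⟩ := hrefl x hx
      exact ⟨⟨a, hxa⟩ * ⟨x, hxx⟩, hA x hx, by rw [map_mul]; exact congrArg₂ (· * ·) ea ex⟩
    obtain ⟨k, hk, ek⟩ := hom hθg
    obtain rfl : k = ⟨g, hgK⟩ := θ.injective ek
    exact hk
  have hanL : a ∉ lSub a d δ := fun e => hanot (hLA e)
  obtain ⟨hxa, hqa, ea⟩ := hrefl a haE
  have hcover : ∀ g ∈ K, g ∈ lSub a d δ ∨ g * a ∈ lSub a d δ := by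
    intro g hg
    have key : ∀ k : O8p, k ∈ commutator O8p ∨ k * θ ⟨a, hxa⟩ ∈ commutator O8p := by
      intro k
      have hn : (commutator O8p).Normal := inferInstance
      refine reflGroup_induction (p := fun k => k ∈ commutator O8p ∨ k * θ ⟨a, hxa⟩ ∈ commutator O8p)
        (Or.inl (one_mem _)) ?_ (reflGroup_plus8 ▸ Subgroup.mem_top k)
      intro v k hv ih
      obtain ⟨x, hx, rfl⟩ := honto v hv
      obtain ⟨hxx, -, ex⟩ := hrefl x hx
      obtain ⟨_, hxa'⟩ := (lSub_iff hC h θ).1 (hpairs x hx a haE)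
      rw [show (⟨x * a, _⟩ : K) = ⟨x, hxx⟩ * ⟨a, hxa⟩ from rfl, map_mul, ex] at hxa'
      have ha2 : θ ⟨a, hxa⟩ * θ ⟨a, hxa⟩ = 1 := by rw [ea, refl_mul_self hqa]
      have ha1 : (θ ⟨a, hxa⟩)⁻¹ = θ ⟨a, hxa⟩ := inv_eq_of_mul_eq_one_right ha2
      rcases ih with ih | ih
      · right
        have := mul_mem hxa' (hn.conj_mem _ ih (θ ⟨a, hxa⟩))
        rwa [ha1, ← mul_assoc (refl q8 _ * θ ⟨a, hxa⟩), mul_assoc (refl q8 _) (θ ⟨a, hxa⟩), ← mul_assoc (θ ⟨a, hxa⟩),
          ha2, one_mul] at this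
      · left
        have := mul_mem hxa' (hn.conj_mem _ ih (θ ⟨a, hxa⟩))
        rwa [ha1, mul_assoc (θ ⟨a, hxa⟩) (k * θ ⟨a, hxa⟩), mul_assoc k, ha2, mul_one, ← mul_assoc,
          mul_assoc (refl q8 _), ha2, mul_one] at this
    rcases key (θ ⟨g, hg⟩) with e | e
    · exact Or.inl ((lSub_iff hC h θ).2 ⟨hg, e⟩)
    · exact Or.inr ((lSub_iff hC h θ).2 ⟨K.mul_mem hg hxa, by rw [← map_mul] at e; exact e⟩)
  have hAL : both a d δ ≤ lSub a d δ := by
    intro g hg
    refine (hcover g hg.1.1).resolve_right fun e => hanot ?_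
    have := mul_mem (inv_mem hg) (hLA e)
    rwa [inv_mul_cancel_left] at this
  have hKn : ∀ k ∈ K, ∀ x ∈ lSub a d δ, k * x * k⁻¹ ∈ lSub a d δ := by
    rintro k hk _ ⟨x, hx, rfl⟩
    exact ⟨⟨k, hk⟩ * x * ⟨k, hk⟩⁻¹, (inferInstance : (commutator K).Normal).conj_mem _ hx _, rfl⟩
  have hdn : ∀ p, (p = name a d δ ptD2 ∨ p = name a d δ ptD3) → ∀ x ∈ lSub a d δ, p * x * p⁻¹ ∈ lSub a d δ := by
    intro p hp x hx
    have hxA := hLA hx
    have hxK : x ∈ K := hxA.1.1
    have hpD : p ∈ D := by rcases hp with rfl | rfl; exacts [m2, m3]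
    have hsp : s p = p := by rcases hp with rfl | rfl; exacts [s2, s3]
    have hall : ∀ r, s r = r → r * x * r⁻¹ ∈ K := by
      intro r hr
      rcases exists_coset hC h hs hr with e | e | e
      · exact K.mul_mem (K.mul_mem e hxK) (K.inv_mem e)
      · have := (hLA (hKn _ e x hx)).1.2
        change name a d δ ptD2 * (name a d δ ptD2 * r * x * (name a d δ ptD2 * r)⁻¹) * (name a d δ ptD2)⁻¹ ∈ K at this
        rwa [mul_inv_rev, inv_eq hC.tt m2, show name a d δ ptD2 * (name a d δ ptD2 * r * x * (r⁻¹ * name a d δ ptD2)) *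
          name a d δ ptD2 = (name a d δ ptD2 * name a d δ ptD2) * (r * x * r⁻¹) *
            (name a d δ ptD2 * name a d δ ptD2) by group, sq hC.tt m2, one_mul, mul_one] at this
      · have := (hLA (hKn _ e x hx)).2
        change name a d δ ptD3 * (name a d δ ptD3 * r * x * (name a d δ ptD3 * r)⁻¹) * (name a d δ ptD3)⁻¹ ∈ K at this
        rwa [mul_inv_rev, inv_eq hC.tt m3, show name a d δ ptD3 * (name a d δ ptD3 * r * x * (r⁻¹ * name a d δ ptD3)) *
          name a d δ ptD3 = (name a d δ ptD3 * name a d δ ptD3) * (r * x * r⁻¹) *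
            (name a d δ ptD3 * name a d δ ptD3) by group, sq hC.tt m3, one_mul, mul_one] at this
    have hstep : ∀ q, s q = q → q * (p * x * p⁻¹) * q⁻¹ ∈ K := fun q hq => by
      rw [show q * (p * x * p⁻¹) * q⁻¹ = q * p * x * (q * p)⁻¹ by group]
      exact hall _ (by rw [map_mul, hq, hsp])
    exact hAL ⟨⟨hall p hsp, hstep _ s2⟩, hstep _ s3⟩
  refine ⟨hpairs, hanL, hcover, fun g hg x hx => ?_⟩
  rcases exists_coset hC h hs hg with e | e | e
  · exact hKn g e x hx
  · have := hdn _ (Or.inl rfl) _ (hKn _ e x hx)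
    rwa [mul_inv_rev, inv_eq hC.tt m2, show name a d δ ptD2 * (name a d δ ptD2 * g * x * (g⁻¹ * name a d δ ptD2)) *
      name a d δ ptD2 = (name a d δ ptD2 * name a d δ ptD2) * (g * x * g⁻¹) *
        (name a d δ ptD2 * name a d δ ptD2) by group, sq hC.tt m2, one_mul, mul_one] at this
  · have := hdn _ (Or.inr rfl) _ (hKn _ e x hx)
    rwa [mul_inv_rev, inv_eq hC.tt m3, show name a d δ ptD3 * (name a d δ ptD3 * g * x * (g⁻¹ * name a d δ ptD3)) *
      name a d δ ptD3 = (name a d δ ptD3 * name a d δ ptD3) * (g * x * g⁻¹) *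
        (name a d δ ptD3 * name a d δ ptD3) by group, sq hC.tt m3, one_mul, mul_one] at this

/-- The subgroup has trivial centraliser. -/
theorem lSub_cent {s : MulAut G} (hs : PMap a d δ s sPt) {g : G} (hg : ∀ x ∈ lSub a d δ, Commute g x) : g = 1 := by
  obtain ⟨hpairs, -, -, -⟩ := lSub_facts hC h hs
  have ht := tri_check
  simp only [Bool.and_eq_true, List.all_eq_true] at ht
  refine trivial_of_classE hC h hs fun t htm => ?_
  have htm' : t ∈ (ptE.zip triE).map Prod.fst := by
    rw [List.map_fst_zip (le_of_eq (Nat.eq_of_beq_eq_true ht.1))]; exact htm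
  obtain ⟨p, hp, rfl⟩ := List.mem_map.1 htm'
  obtain ⟨⟨⟨⟨⟨⟨e1, e2⟩, n1⟩, n2⟩, n3⟩, c1⟩, c2⟩ := ht.2 p hp
  have l0 := ptE_lt hC h htm
  have l1 := ptE_lt hC h (inE_iff.1 e1)
  have l2 := ptE_lt hC h (inE_iff.1 e2)
  have hne : ∀ {x y : ℕ}, x < 3510 → y < 3510 → (!Nat.beq x y) = true → name a d δ x ≠ name a d δ y :=
    fun hx hy hb e => by rw [name_inj hC h hx hy e, Nat.beq_refl] at hb; exact Bool.noConfusion hb
  have key : ∀ {u}, inE u = true → u < 3510 → name a d δ p.1 ≠ name a d δ u →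
      Commute (name a d δ p.1) (name a d δ u) →
      g * name a d δ p.1 * g⁻¹ = name a d δ p.1 ∨ g * name a d δ p.1 * g⁻¹ = name a d δ u := by
    intro u hu hul hnu hcu
    have hx := hg _ (hpairs _ ⟨p.1, htm, rfl⟩ _ ⟨u, inE_iff.1 hu, rfl⟩)
    have hmem : g ∈ pairStab (name a d δ p.1) (name a d δ u) := by
      rw [pairStab_eq hC (name_mem hC h l0) (name_mem hC h hul) hnu hcu]
      exact Subgroup.mem_centralizer_singleton_iff.2 hx.eq
    rcases hmem with ⟨e, -⟩ | ⟨e, -⟩
    exacts [Or.inl e, Or.inr e]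
  refine mul_inv_eq_iff_eq_mul.1 ?_
  rcases key e1 l1 (hne l0 l1 n1) ((commute_iff hC h l0 l1).2 c1) with e | e
  · exact e
  · rcases key e2 l2 (hne l0 l2 n2) ((commute_iff hC h l0 l2).2 c2) with e' | e'
    · exact e'
    · exact absurd (e.symm.trans e') (hne l1 l2 n3)

/-- The centraliser is the automorphism group. -/
theorem exists_iso_aut {s : MulAut G} (hs : PMap a d δ s sPt) :
    Nonempty (fixSub s ≃* MulAut (Cfsg.Omega (ZMod 2) (Cfsg.quadFormPlus 4 (ZMod 2)))) := by
  classical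
  set K := stabSet (classE a d δ) with hK
  obtain ⟨θ, -⟩ := exists_thetaE hC h hs
  obtain ⟨-, hanL, hcover, hnorm⟩ := lSub_facts hC h hs
  have hle := stab_le_fix hC h hs
  have hLK : lSub a d δ ≤ K := Subgroup.map_subtype_le _
  have hLC : lSub a d δ ≤ fixSub s := hLK.trans hle
  have hnN : ((lSub a d δ).subgroupOf (fixSub s)).Normal := ⟨fun x hx g => hnorm g g.2 x hx⟩
  -- the isomorphism with the orthogonal group
  have hmap : (commutator K).map θ.toMonoidHom = commutator O8p := by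
    rw [commutator_def, commutator_def, Subgroup.map_commutator, Subgroup.map_top_of_surjective _ θ.surjective]
  let eΩ : ↥((lSub a d δ).subgroupOf (fixSub s)) ≃* ↥(commutator O8p) :=
    ((Subgroup.subgroupOfEquivOfLe hLC).trans
      ((commutator K).equivMapOfInjective _ K.subtype_injective).symm).trans
      ((θ.subgroupMap (commutator K)).trans (MulEquiv.subgroupCongr hmap))
  let ψ : fixSub s →* MulAut ↥(commutator O8p) :=
    (MulAut.congr eΩ).toMonoidHom.comp MulAut.conjNormal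
  have hinj : Function.Injective ψ := by
    refine (MulAut.congr eΩ).injective.comp ((injective_iff_map_eq_one _).2 fun g hg => Subtype.ext ?_)
    refine lSub_cent hC h hs fun x hx => ?_
    have e := DFunLike.congr_fun hg ⟨⟨x, hLC hx⟩, hx⟩
    have e' := congrArg (fun z : ↥((lSub a d δ).subgroupOf (fixSub s)) => ((z : fixSub s) : G)) e
    simp only [MulAut.conjNormal_apply, MulAut.one_apply, Subgroup.coe_mul, Subgroup.coe_inv] at e'
    exact mul_inv_eq_iff_eq_mul.1 e'
  -- counting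
  have haK : a ∈ K := by
    obtain ⟨θ', -, hrefl, -⟩ := exists_thetaE hC h hs
    exact (hrefl a (a_mem_classE hC h)).1
  have hidx : (commutator K).index = 2 := by
    have hL : ∀ k : K, k ∈ commutator K ↔ (k : G) ∈ lSub a d δ := fun k =>
      ⟨fun hk => ⟨k, hk, rfl⟩, fun ⟨y, hy, e⟩ => by rwa [← K.subtype_injective e]⟩
    refine Subgroup.index_eq_two_iff.2 ⟨⟨a, haK⟩, fun k => ?_⟩
    rw [hL, hL]
    rcases hcover k k.2 with e | e
    · refine Or.inr ⟨e, fun e' => hanL ?_⟩
      have := mul_mem (inv_mem e) e'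
      rwa [Subgroup.coe_mul, inv_mul_cancel_left] at this
    · refine Or.inl ⟨e, fun e' => hanL ?_⟩
      have := mul_mem (inv_mem e') e
      rwa [inv_mul_cancel_left] at this
  have hcent : Subgroup.center ↥(commutator O8p) = ⊥ := by
    refine (Subgroup.eq_bot_iff_forall _).2 fun z hz => ?_
    obtain ⟨y, rfl⟩ := eΩ.surjective z
    have : ((y : fixSub s) : G) = 1 := lSub_cent hC h hs fun x hx => by
      have e := eΩ.injective (((map_mul eΩ _ _).trans (Subgroup.mem_center_iff.1 hz (eΩ ⟨⟨x, hLC hx⟩, hx⟩))).trans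
        (map_mul eΩ _ _).symm)
      exact (congrArg (fun z : ↥((lSub a d δ).subgroupOf (fixSub s)) => ((z : fixSub s) : G)) e).symm
    rw [show y = 1 from Subtype.ext (Subtype.ext this), map_one]
  have hcardΩ : Nat.card K = 2 * Nat.card ↥(commutator O8p) := by
    rw [← (commutator K).card_mul_index, hidx, mul_comm,
      Nat.card_congr ((θ.subgroupMap (commutator K)).trans (MulEquiv.subgroupCongr hmap)).toEquiv]
  have hPO : Nat.card (MulAut ↥(commutator O8p)) = 6 * Nat.card ↥(commutator O8p) := by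
    have := Fact.mk Nat.prime_two
    have h17 := S0817.result (F := ZMod 2) 2 1 le_rfl (ZMod.card 2) 4 le_rfl
    rw [← coe_qPlus] at h17
    let e1 : ↥(commutator O8p) ≃* Cfsg.POmega (ZMod 2) ⇑(qPlus 4 (ZMod 2)) :=
      (QuotientGroup.quotientBot (G := ↥(commutator O8p))).symm.trans
        (QuotientGroup.quotientMulEquivOfEq hcent.symm)
    rw [Nat.card_congr (MulAut.congr e1).toEquiv, h17, Nat.card_congr e1.toEquiv]
    norm_num
  have hcard : Nat.card (fixSub s) = Nat.card (MulAut ↥(commutator O8p)) := by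
    rw [card_fixSub hC h hs, hcardΩ, hPO]; ring
  rw [← coe_qPlus]
  exact ⟨MulEquiv.ofBijective ψ ((Nat.bijective_iff_injective_and_card ψ).2 ⟨hinj, hcard⟩)⟩

end Cfsg.Agent.TT95.Inv22
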