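import Cfsg.Agent.TT95.Calc.Base
import Cfsg.Agent.TT95.Orders
import Cfsg.Agent.TT95.KeyPerm

/-!
Type M(22): automorphisms read off from their maps of the 3510 points.
-/

set_option autoImplicit false
set_option linter.unusedSectionVars false

namespace Cfsg.Agent.TT95.Inv22

open Cfsg.Agent.TT95.Uni22 Cfsg.Agent.TT95.Calc

/-- A short word for the transposition of a point. -/
def tW (t : ℕ) : List ℕ := cond (Nat.blt (tgL.idxOf t) 13) [tgL.idxOf t] (memW t)

/-- The word of a product of transpositions. -/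
def tWs (l : List ℕ) : List ℕ := l.flatMap tW

/-- The conjugation by the transposition of a point. -/
def mv (t u : ℕ) : ℕ := Calc.act (tW t) u

/-- The conjugation by a product of transpositions. -/
def mvs (l : List ℕ) (u : ℕ) : ℕ := Calc.act (tWs l) u

/-- Counting fixed points on a range. -/
theorem card_fix_count {n : ℕ} (σ : Equiv.Perm (Fin n)) (f : ℕ → ℕ) (hf : ∀ x : Fin n, (σ x : ℕ) = f x) :
    (Finset.univ.filter fun x => σ x = x).card = (List.range n).countP fun t => Nat.beq (f t) t := by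
  rw [← List.map_coe_finRange_eq_range, List.countP_map, List.countP_eq_length_filter,
    ← List.toFinset_card_of_nodup ((List.nodup_finRange _).filter _)]
  congr 1
  ext x
  simp only [Finset.mem_filter, Finset.mem_univ, true_and, List.mem_toFinset, List.mem_filter,
    List.mem_finRange, Function.comp_apply]
  rw [Fin.ext_iff, hf]
  exact ⟨fun e => by rw [e]; exact Nat.beq_refl _, fun e => Nat.eq_of_beq_eq_true e⟩

variable {G : Type*} [Group G] [Finite G] {D : Set G} (hC : Cfg22 D) [Gen D] {a d : G} {δ : ℕ → G}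
  (h : Std D a d δ)

/-- A map of the points realises an automorphism. -/
def PMap (a d : G) (δ : ℕ → G) (α : MulAut G) (f : ℕ → ℕ) : Prop :=
  ∀ t, t < 3510 → f t < 3510 ∧ α (name a d δ t) = name a d δ (f t)

theorem PMap.mul {α β : MulAut G} {f g : ℕ → ℕ} (hf : PMap a d δ α f) (hg : PMap a d δ β g) :
    PMap a d δ (α * β) (fun t => f (g t)) := fun t ht => by
  obtain ⟨h1, h2⟩ := hg t ht
  obtain ⟨h3, h4⟩ := hf _ h1
  exact ⟨h3, by rw [MulAut.mul_apply, h2, h4]⟩

theorem PMap.congr {α : MulAut G} {f g : ℕ → ℕ} (hf : PMap a d δ α f) (e : ∀ t, t < 3510 → g t = f t) :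
    PMap a d δ α g := fun t ht => by rw [e t ht]; exact hf t ht

theorem pmap_one : PMap a d δ (1 : MulAut G) (fun t => t) := fun _ ht => ⟨ht, rfl⟩

include hC h

theorem tW_spec {t : ℕ} (ht : t < 3510) : validW (tW t) = true ∧ ev d δ (tW t) = name a d δ t := by
  unfold tW
  cases hb : Nat.blt (tgL.idxOf t) 13
  · exact memW_spec hC h ht
  · have hi : tgL.idxOf t < 13 := Nat.le_of_ble_eq_true hb
    have hl : tgL.length = 13 := by decide +kernel
    have hm : tgL.idxOf t < tgL.length := by rw [hl]; exact hi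
    have e : tgL.getD (tgL.idxOf t) 0 = t := by
      rw [List.getD_eq_getElem _ _ hm, List.getElem_idxOf hm]
    refine ⟨validW_iff.2 (fun i hi' => ?_), ?_⟩
    · rw [cond_true, List.mem_singleton] at hi'
      exact hi' ▸ hi
    · rw [cond_true, ev_singleton, gen_eq_name hC h hi, e]

theorem tWs_spec : ∀ {l : List ℕ}, (∀ t ∈ l, t < 3510) →
    validW (tWs l) = true ∧ ev d δ (tWs l) = (l.map (name a d δ)).prod
  | [], _ => ⟨rfl, rfl⟩
  | t :: l, hl => by
    obtain ⟨h1, h2⟩ := tW_spec hC h (hl t List.mem_cons_self)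
    obtain ⟨h3, h4⟩ := tWs_spec (l := l) fun u hu => hl u (List.mem_cons_of_mem _ hu)
    show validW (tW t ++ tWs l) = true ∧ ev d δ (tW t ++ tWs l) = _
    rw [validW_append, h1, h3, ev_append, h2, h4, List.map_cons, List.prod_cons]
    exact ⟨rfl, rfl⟩

theorem pmap_ev {w : List ℕ} (hw : validW w = true) : PMap a d δ (MulAut.conj (ev d δ w)) (Calc.act w) :=
  fun _ ht => ⟨(act_spec hC h hw ht).1, (act_spec hC h hw ht).2⟩

theorem pmap_name {t : ℕ} (ht : t < 3510) : PMap a d δ (MulAut.conj (name a d δ t)) (mv t) := by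
  obtain ⟨h1, h2⟩ := tW_spec hC h ht
  rw [← h2]
  exact pmap_ev hC h h1

theorem pmap_prod {l : List ℕ} (hl : ∀ t ∈ l, t < 3510) :
    PMap a d δ (MulAut.conj (l.map (name a d δ)).prod) (mvs l) := by
  obtain ⟨h1, h2⟩ := tWs_spec hC h hl
  rw [← h2]
  exact pmap_ev hC h h1

theorem pmap_rev {l : List ℕ} (hl : ∀ t ∈ l, t < 3510) :
    PMap a d δ (MulAut.conj (l.map (name a d δ)).prod)⁻¹ (mvs l.reverse) := by
  have e : ((l.map (name a d δ)).prod)⁻¹ = (l.reverse.map (name a d δ)).prod := by
    refine inv_eq_of_mul_eq_one_left ?_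
    induction l with
    | nil => simp
    | cons x l ih =>
      rw [List.reverse_cons, List.map_append, List.prod_append, List.map_singleton, List.prod_singleton,
        List.map_cons, List.prod_cons, mul_assoc, ← mul_assoc (name a d δ x), sq h.tt
        (name_mem hC h (hl x List.mem_cons_self)), one_mul]
      exact ih fun t ht => hl t (List.mem_cons_of_mem _ ht)
  rw [← map_inv, e]
  exact pmap_prod hC h fun t ht => hl t (List.mem_reverse.1 ht)

theorem commute_mv {t u : ℕ} (ht : t < 3510) (hu : u < 3510) :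
    Commute (name a d δ t) (name a d δ u) ↔ mv t u = u := by
  obtain ⟨h1, h2⟩ := tW_spec hC h ht
  rw [← h2, mv]
  exact commute_ev_name hC h h1 hu

/-- Two automorphisms agreeing on the thirteen generators are equal. -/
theorem aut_ext {α β : MulAut G} (e : ∀ i, i < 13 → α (gen d δ i) = β (gen d δ i)) : α = β := by
  have heq : α.toMonoidHom = β.toMonoidHom := by
    refine MonoidHom.eq_of_eqOn_dense (numbering hC h).2 ?_
    rintro _ ⟨i, hi, rfl⟩
    exact e i hi
  exact MulEquiv.toMonoidHom_injective heq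

theorem PMap.ext {α β : MulAut G} {f g : ℕ → ℕ} (hf : PMap a d δ α f) (hg : PMap a d δ β g)
    (e : (tgL.all fun t => Nat.beq (f t) (g t)) = true) : α = β := by
  refine aut_ext hC h fun i hi => ?_
  have hl : tgL.length = 13 := by decide +kernel
  have hm : tgL.getD i 0 ∈ tgL := by
    rw [List.getD_eq_getElem _ _ (by rw [hl]; exact hi)]
    exact List.getElem_mem _
  rw [gen_eq_name hC h hi, (hf _ (tgL_lt hC h hi)).2, (hg _ (tgL_lt hC h hi)).2,
    Nat.eq_of_beq_eq_true (List.all_eq_true.1 e _ hm)]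

theorem PMap.unique {α : MulAut G} {f g : ℕ → ℕ} (hf : PMap a d δ α f) (hg : PMap a d δ α g) {t : ℕ}
    (ht : t < 3510) : f t = g t :=
  name_inj hC h (hf t ht).1 (hg t ht).1 ((hf t ht).2.symm.trans (hg t ht).2)

/-- No element induces an odd involution of the points. -/
theorem not_odd {g : G} {f : ℕ → ℕ} (hf : PMap a d δ (MulAut.conj g) f)
    (hinv : ∀ t, t < 3510 → f (f t) = t) {m : ℕ} (hm : Odd m)
    (hcount : ((List.range 3510).countP fun t => Nat.beq (f t) t) + 2 * m = 3510) : False := by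
  classical
  obtain ⟨Φ, -, -, -, hΦ⟩ := exists_perm_rep hC h
  have hval : ∀ t : Fin 3510, ((Φ g t : Fin 3510) : ℕ) = f t := fun t =>
    name_inj hC h (Φ g t).2 (hf t t.2).1 ((hΦ g t).trans (hf t t.2).2)
  have hsq : Φ g * Φ g = 1 := Equiv.ext fun t => Fin.ext (by
    show ((Φ g (Φ g t) : Fin 3510) : ℕ) = t
    rw [hval, hval, hinv t t.2])
  have hcard : (Finset.univ.filter fun x : Fin 3510 => Φ g x = x).card + 2 * m = Fintype.card (Fin 3510) := by
    rw [Fintype.card_fin, card_fix_count (Φ g) f hval]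
    exact hcount
  have hsign := sign_of_involution (Φ g) hsq m hcard
  rw [hm.neg_one_pow] at hsign
  have htriv : commutator G ≤ (Equiv.Perm.sign.comp Φ).ker := Abelianization.commutator_subset_ker _
  rw [group_perfect hC h.mema] at htriv
  have h1 : Equiv.Perm.sign (Φ g) = 1 := by
    have := MonoidHom.mem_ker.1 (htriv (Subgroup.mem_top g))
    rwa [MonoidHom.comp_apply] at this
  rw [h1] at hsign
  exact absurd hsign (by simp)

/-- Maps of automorphisms preserve commutation. -/
theorem PMap.comB {α : MulAut G} {f : ℕ → ℕ} (hf : PMap a d δ α f) {t u : ℕ} (ht : t < 3510) (hu : u < 3510) :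
    Calc.comB (f t) (f u) = Calc.comB t u := by
  rw [Bool.eq_iff_iff, ← Calc.commute_iff hC h (hf t ht).1 (hf u hu).1, ← Calc.commute_iff hC h ht hu,
    ← (hf t ht).2, ← (hf u hu).2]
  exact commute_map_iff (f := α.toMonoidHom) α.injective

/-- Every inner automorphism has a map of the points. -/
theorem exists_pmap (g : G) : ∃ f, PMap a d δ (MulAut.conj g) f := by
  obtain ⟨w, hw, rfl⟩ := exists_word hC h g
  exact ⟨_, pmap_ev hC h hw⟩

end Cfsg.Agent.TT95.Inv22
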