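import Cfsg.Agent.TT95.Inv22.Sigma
import Cfsg.Agent.TT95.Inv22.DataFix

/-!
Type M(22): the fixed transpositions of two outer involutions have trivial centraliser.
-/

set_option autoImplicit false
set_option linter.unusedSectionVars false

namespace Cfsg.Agent.TT95.Inv22

open Cfsg.Agent.TT95.Uni22 Cfsg.Agent.TT95.Calc

/-- The pattern on fixed points. -/
def key1 (sel : List ℕ) (u : ℕ) : ℕ := sel.foldl (fun k x => 2 * k + cond (comB x u) 1 0) 0

/-- The pattern on pairs of moved points. -/
def key2 (R : ℕ → ℕ) (pr : List ℕ) (k0 u : ℕ) : ℕ :=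
  pr.foldl (fun k x => 4 * k + (2 * cond (comB x u || comB (R x) u) 1 0 + cond (comB x u && comB (R x) u) 1 0)) k0

/-- An unpacked list. -/
def unpack (w n P : ℕ) : List ℕ := (List.range n).map fun i => Nat.land (Nat.shiftRight P (w * i)) (2 ^ w - 1)

/-- Sorted entries, equal patterns only for two points of a pair. -/
def sortOK (R : ℕ → ℕ) : List ℕ → Bool
  | [] => true
  | [_] => true
  | [x, y] => Nat.blt (x / 4096) (y / 4096) || (Nat.beq (x / 4096) (y / 4096) && Nat.beq (R (x % 4096)) (y % 4096))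
  | x :: y :: z :: r => (Nat.blt (x / 4096) (y / 4096) || (Nat.beq (x / 4096) (y / 4096) &&
      Nat.beq (R (x % 4096)) (y % 4096) && Nat.blt (y / 4096) (z / 4096))) && sortOK R (y :: z :: r)

/-- The points of the entries. -/
def seenPts (L : List ℕ) (m : ℕ) : ℕ := L.foldl (fun m x => Nat.lor m (Nat.shiftLeft 1 (x % 4096))) m

/-- The connection. -/
def linkOK (R : ℕ → ℕ) : List ℕ → ℕ → ℕ → Bool
  | [], seen, fin => Nat.beq seen fin
  | e :: L, seen, fin =>
    let x := e % 4096
    let y := e / 4096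
    Nat.testBit seen x && Nat.blt y 3510 && (comB x y != comB x (R y)) &&
      linkOK R L (Nat.lor seen (Nat.shiftLeft 1 y)) fin

/-- The points of the connection. -/
def linkFin (L : List ℕ) (seen : ℕ) : ℕ := L.foldl (fun m e => Nat.lor m (Nat.shiftLeft 1 (e / 4096))) seen

/-- The whole certificate. -/
def fixOK (R : ℕ → ℕ) (sel pr L : List ℕ) (root : ℕ) (K : List ℕ) : Bool :=
  (sel.all fun x => Nat.blt x 3510 && Nat.beq (R x) x) && (pr.all fun x => Nat.blt x 3510) &&
  (L.all fun x => Nat.blt (x % 4096) 3510 && Nat.beq (key2 R pr (key1 sel (x % 4096)) (x % 4096)) (x / 4096)) &&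
  sortOK R L && Nat.beq (seenPts L 0) (2 ^ 3510 - 1) &&
  (pr.all fun x => Nat.beq (key1 sel x) (key1 sel (R x)) &&
    L.all fun z => !Nat.beq (z / 4096 / 4 ^ pr.length) (key1 sel x) || Nat.beq (z % 4096) x || Nat.beq (z % 4096) (R x)) &&
  Nat.blt root 3510 && linkOK R K (Nat.shiftLeft 1 root) (linkFin K (Nat.shiftLeft 1 root)) &&
  ((List.range 3510).all fun u => Nat.beq (R u) u || Nat.testBit (linkFin K (Nat.shiftLeft 1 root)) u ||
    Nat.testBit (linkFin K (Nat.shiftLeft 1 root)) (R u))

theorem key2_div (R : ℕ → ℕ) : ∀ (pr : List ℕ) (k0 u : ℕ), key2 R pr k0 u / 4 ^ pr.length = k0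
  | [], k0, u => by simp [key2]
  | x :: pr, k0, u => by
    show key2 R pr (4 * k0 + (2 * cond (comB x u || comB (R x) u) 1 0 + cond (comB x u && comB (R x) u) 1 0)) u /
      4 ^ (pr.length + 1) = k0
    rw [pow_succ, ← Nat.div_div_eq_div_mul, key2_div R pr]
    cases comB x u <;> cases comB (R x) u <;> simp <;> omega

theorem sort_le (R : ℕ → ℕ) : ∀ (L : List ℕ) (x : ℕ), sortOK R (x :: L) = true → ∀ z ∈ L, x / 4096 ≤ z / 4096
  | [], x, _, z, hz => absurd hz List.not_mem_nil
  | [y], x, hok, z, hz => by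
    obtain rfl := List.mem_singleton.1 hz
    simp only [sortOK, Bool.or_eq_true, Bool.and_eq_true, Nat.blt_eq] at hok
    rcases hok with e | ⟨e, -⟩
    · exact e.le
    · exact (Nat.eq_of_beq_eq_true e).le
  | y :: w :: r, x, hok, z, hz => by
    simp only [sortOK, Bool.or_eq_true, Bool.and_eq_true, Nat.blt_eq] at hok
    have hxy : x / 4096 ≤ y / 4096 := by
      rcases hok.1 with e | ⟨⟨e, -⟩, -⟩
      · exact e.le
      · exact (Nat.eq_of_beq_eq_true e).le
    rcases List.mem_cons.1 hz with rfl | hz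
    · exact hxy
    · exact hxy.trans (sort_le R (w :: r) y hok.2 z hz)

theorem sort_head (R : ℕ → ℕ) : ∀ (L : List ℕ) (x : ℕ), sortOK R (x :: L) = true → ∀ z ∈ L, x / 4096 = z / 4096 →
    z % 4096 = R (x % 4096)
  | [], x, _, z, hz, _ => absurd hz List.not_mem_nil
  | [y], x, hok, z, hz, e => by
    obtain rfl := List.mem_singleton.1 hz
    simp only [sortOK, Bool.or_eq_true, Bool.and_eq_true, Nat.blt_eq] at hok
    rcases hok with h' | ⟨-, h'⟩
    · omega
    · exact (Nat.eq_of_beq_eq_true h').symm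
  | y :: w :: r, x, hok, z, hz, e => by
    simp only [sortOK, Bool.or_eq_true, Bool.and_eq_true, Nat.blt_eq] at hok
    rcases List.mem_cons.1 hz with rfl | hz
    · rcases hok.1 with h' | ⟨⟨-, h'⟩, -⟩
      · omega
      · exact (Nat.eq_of_beq_eq_true h').symm
    · exfalso
      have hyz : y / 4096 ≤ z / 4096 := sort_le R (w :: r) y hok.2 z hz
      rcases hok.1 with h' | ⟨⟨h1, -⟩, h'⟩
      · omega
      · have hwz : w / 4096 ≤ z / 4096 := by
          rcases List.mem_cons.1 hz with rfl | hz
          · exact le_refl _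
          · refine sort_le R r w ?_ z hz
            match r, hok.2 with
            | [], _ => rfl
            | v :: r', h'' =>
              simp only [sortOK, Bool.and_eq_true] at h''
              exact h''.2
        have := Nat.eq_of_beq_eq_true h1
        omega

theorem sort_uniq (R : ℕ → ℕ) : ∀ (L : List ℕ), sortOK R L = true → ∀ y ∈ L, ∀ z ∈ L, y / 4096 = z / 4096 →
    y % 4096 = z % 4096 ∨ z % 4096 = R (y % 4096) ∨ y % 4096 = R (z % 4096)
  | [], _, y, hy, _, _, _ => absurd hy List.not_mem_nil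
  | x :: L, hok, y, hy, z, hz, e => by
    rcases List.mem_cons.1 hy with ey | hy' <;> rcases List.mem_cons.1 hz with ez | hz'
    · exact Or.inl (by rw [ey, ez])
    · subst ey
      exact Or.inr (Or.inl (sort_head R L _ hok z hz' e))
    · subst ez
      exact Or.inr (Or.inr (sort_head R L _ hok y hy' e.symm))
    · refine sort_uniq R L ?_ y hy' z hz' e
      match L, hok with
      | [], _ => rfl
      | [_], _ => rfl
      | a :: b :: r, h'' =>
        simp only [sortOK, Bool.and_eq_true] at h''
        exact h''.2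

theorem seenPts_spec : ∀ (L : List ℕ) (m u : ℕ), (seenPts L m).testBit u = true →
    m.testBit u = true ∨ ∃ x ∈ L, x % 4096 = u
  | [], m, u, hu => Or.inl hu
  | x :: L, m, u, hu => by
    rcases seenPts_spec L _ u (show (seenPts L (Nat.lor m (Nat.shiftLeft 1 (x % 4096)))).testBit u = true from hu)
      with e | ⟨y, hy, e⟩
    · rw [show Nat.lor m (Nat.shiftLeft 1 (x % 4096)) = m ||| 1 <<< (x % 4096) from rfl, Nat.testBit_or,
        Nat.one_shiftLeft, Nat.testBit_two_pow, Bool.or_eq_true, decide_eq_true_eq] at e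
      rcases e with e | e
      · exact Or.inl e
      · exact Or.inr ⟨x, List.mem_cons_self, e⟩
    · exact Or.inr ⟨y, List.mem_cons_of_mem _ hy, e⟩

theorem cond_symm {b c b' c' : Bool} (h : (b = b' ∧ c = c') ∨ (b = c' ∧ c = b')) :
    (b || c) = (b' || c') ∧ (b && c) = (b' && c') := by
  rcases h with ⟨rfl, rfl⟩ | ⟨rfl, rfl⟩ <;> simp [Bool.or_comm, Bool.and_comm]

variable {G : Type*} [Group G] [Finite G] {D : Set G} (hC : Cfg22 D) [Gen D] {a d : G} {δ : ℕ → G}
  (h : Std D a d δ)

include hC h

/-- An element commuting with enough fixed transpositions of an odd involution is trivial. -/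
theorem fix_trivial {R : ℕ → ℕ} {sel pr L : List ℕ} {root : ℕ} {K : List ℕ}
    (hok : fixOK R sel pr L root K = true) {α : MulAut G} (hα : PMap a d δ α R)
    (hinv : ∀ t, t < 3510 → R (R t) = t) {m : ℕ} (hm : Odd m)
    (hcount : ((List.range 3510).countP fun t => Nat.beq (R t) t) + 2 * m = 3510) {g : G}
    (hg : ∀ x ∈ sel, Commute g (name a d δ x)) : g = 1 := by
  simp only [fixOK, Bool.and_eq_true, List.all_eq_true, Nat.blt_eq, List.mem_range] at hok
  obtain ⟨⟨⟨⟨⟨⟨⟨⟨hsel, hpr⟩, hent⟩, hsort⟩, hmask⟩, hcell⟩, hroot⟩, hlink⟩, hcov⟩ := hok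
  obtain ⟨σ, hσ⟩ := exists_pmap hC h g
  have hσlt : ∀ {t}, t < 3510 → σ t < 3510 := fun ht => (hσ _ ht).1
  have hσinj : ∀ {t u}, t < 3510 → u < 3510 → σ t = σ u → t = u := fun ht hu e =>
    name_inj hC h ht hu ((MulAut.conj g).injective (by rw [(hσ _ ht).2, (hσ _ hu).2, e]))
  have hσsel : ∀ x ∈ sel, σ x = x := fun x hx => by
    refine name_inj hC h (hσlt (hsel x hx).1) (hsel x hx).1 ?_
    rw [← (hσ x (hsel x hx).1).2, MulAut.conj_apply, (hg x hx).eq, mul_inv_cancel_right]
  have hentry : ∀ u, u < 3510 → ∃ e ∈ L, e % 4096 = u ∧ e / 4096 = key2 R pr (key1 sel u) u := by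
    intro u hu
    have hb : (seenPts L 0).testBit u = true := by
      rw [Nat.eq_of_beq_eq_true hmask, Nat.testBit_two_pow_sub_one]
      exact decide_eq_true hu
    rcases seenPts_spec L 0 u hb with e | ⟨x, hx, rfl⟩
    · simp at e
    · exact ⟨x, hx, rfl, (Nat.eq_of_beq_eq_true (hent x hx).2).symm⟩
  have hk1 : ∀ u, u < 3510 → key1 sel (σ u) = key1 sel u := by
    intro u hu
    refine List.foldl_ext _ _ _ fun k x hx => ?_
    have := hσ.comB hC h (hsel x hx).1 hu
    rw [hσsel x hx] at this
    rw [this]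
  have hpair : ∀ x ∈ pr, (σ x = x ∧ σ (R x) = R x) ∨ (σ x = R x ∧ σ (R x) = x) := by
    intro x hx
    obtain ⟨hx1, hx2⟩ := hcell x hx
    have hxl := hpr x hx
    have hin : ∀ u, u < 3510 → key1 sel u = key1 sel x → u = x ∨ u = R x := by
      intro u hu e
      obtain ⟨z, hz, hzu, hzk⟩ := hentry u hu
      have h3 := hx2 z hz
      rw [hzu, hzk, key2_div, e] at h3
      simp only [Nat.beq_refl, Bool.not_true, Bool.false_or, Bool.or_eq_true] at h3
      exact h3.imp Nat.eq_of_beq_eq_true Nat.eq_of_beq_eq_true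
    have hRl := (hα x hxl).1
    have h1 := hin (σ x) (hσlt hxl) (hk1 x hxl)
    have h2 := hin (σ (R x)) (hσlt hRl) ((hk1 _ hRl).trans (Nat.eq_of_beq_eq_true hx1).symm)
    rcases h1 with e | e <;> rcases h2 with e' | e'
    · have := hσinj hRl hxl (e'.trans e.symm)
      exact Or.inl ⟨e, e'.trans this.symm⟩
    · exact Or.inl ⟨e, e'⟩
    · exact Or.inr ⟨e, e'⟩
    · have := hσinj hxl hRl (e.trans e'.symm)
      exact Or.inr ⟨e, e'.trans this.symm⟩
  have hkey : ∀ u, u < 3510 → key2 R pr (key1 sel (σ u)) (σ u) = key2 R pr (key1 sel u) u := by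
    intro u hu
    rw [hk1 u hu]
    refine List.foldl_ext _ _ _ fun k x hx => ?_
    have c1 := hσ.comB hC h (hpr x hx) hu
    have c2 := hσ.comB hC h (hα x (hpr x hx)).1 hu
    have hc : (comB x (σ u) || comB (R x) (σ u)) = (comB x u || comB (R x) u) ∧
        (comB x (σ u) && comB (R x) (σ u)) = (comB x u && comB (R x) u) := by
      refine cond_symm ?_
      rcases hpair x hx with ⟨e, e'⟩ | ⟨e, e'⟩ <;> rw [e] at c1 <;> rw [e'] at c2
      · exact Or.inl ⟨c1, c2⟩
      · exact Or.inr ⟨c2, c1⟩
    rw [hc.1, hc.2]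
  have hmove : ∀ u, u < 3510 → σ u = u ∨ σ u = R u := by
    intro u hu
    obtain ⟨z, hz, hzu, hzk⟩ := hentry u hu
    obtain ⟨w, hw, hwu, hwk⟩ := hentry _ (hσlt hu)
    rcases sort_uniq R L hsort z hz w hw (by rw [hzk, hwk, hkey u hu]) with e | e | e <;> rw [hzu, hwu] at e
    · exact Or.inl e.symm
    · exact Or.inr e
    · exact Or.inr ((hinv _ (hσlt hu)).symm.trans (congrArg R e.symm))
  -- all pairs behave alike
  have hstep : ∀ (K : List ℕ) (seen fin : ℕ), linkOK R K seen fin = true →
      (∀ u, seen.testBit u = true → u < 3510 ∧ (σ root = root ↔ σ u = u)) →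
      ∀ u, fin.testBit u = true → u < 3510 ∧ (σ root = root ↔ σ u = u) := by
    intro K
    induction K with
    | nil =>
      intro seen fin hk hs u hu
      rw [← Nat.eq_of_beq_eq_true (hk : Nat.beq seen fin = true)] at hu
      exact hs u hu
    | cons e K ih =>
      intro seen fin hk hs
      simp only [linkOK, Bool.and_eq_true, bne_iff_ne, Nat.blt_eq] at hk
      obtain ⟨⟨⟨k1, k2⟩, k3⟩, k4⟩ := hk
      obtain ⟨hx, hxr⟩ := hs _ k1
      refine ih _ fin k4 fun u hu => ?_
      rw [show Nat.lor seen (Nat.shiftLeft 1 (e / 4096)) = seen ||| 1 <<< (e / 4096) from rfl, Nat.testBit_or,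
        Nat.one_shiftLeft, Nat.testBit_two_pow, Bool.or_eq_true, decide_eq_true_eq] at hu
      rcases hu with hu | rfl
      · exact hs u hu
      refine ⟨k2, hxr.trans ?_⟩
      have hc := hσ.comB hC h hx k2
      constructor
      · intro ex
        by_contra ey
        rw [ex, (hmove _ k2).resolve_left ey] at hc
        exact k3 hc.symm
      · intro ey
        by_contra ex
        rw [ey, (hmove _ hx).resolve_left ex] at hc
        have h4 := hα.comB hC h hx (hα _ k2).1
        rw [hinv _ k2] at h4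
        exact k3 (hc.symm.trans h4)
  have hall : ∀ u, u < 3510 → R u = u ∨ (σ root = root ↔ σ u = u) := by
    intro u hu
    have hseed : ∀ v, (Nat.shiftLeft 1 root).testBit v = true → v < 3510 ∧ (σ root = root ↔ σ v = v) := by
      intro v hv
      rw [show Nat.shiftLeft 1 root = 1 <<< root from rfl, Nat.one_shiftLeft, Nat.testBit_two_pow,
        decide_eq_true_eq] at hv
      exact ⟨hv ▸ hroot, hv ▸ Iff.rfl⟩
    have := hcov u hu
    simp only [Bool.or_eq_true] at this
    rcases this with (e | e) | e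
    · exact Or.inl (Nat.eq_of_beq_eq_true e)
    · exact Or.inr (hstep K _ _ hlink hseed u e).2
    · refine Or.inr ((hstep K _ _ hlink hseed _ e).2.trans ⟨fun e' => ?_, fun e' => ?_⟩)
      · rcases hmove u hu with e'' | e''
        · exact e''
        · exact e''.trans (hσinj hu (hα u hu).1 (e''.trans e'.symm)).symm
      · rcases hmove _ (hα u hu).1 with e'' | e''
        · exact e''
        · rw [hinv u hu] at e''
          exact e''.trans (hσinj (hα u hu).1 hu (e''.trans e'.symm)).symm
  by_cases hr : σ root = root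
  · have h1 : MulAut.conj g = 1 := by
      refine hσ.ext hC h pmap_one (List.all_eq_true.2 fun t ht => ?_)
      have ht' : t < 3510 := by
        have hb := base_check
        simp only [Bool.and_eq_true] at hb
        exact Nat.le_of_ble_eq_true (List.all_eq_true.1 hb.1.1.2 t ht)
      have e : σ t = t := by
        rcases hall t ht' with e | e
        · rcases hmove t ht' with e'' | e''
          · exact e''
          · exact e''.trans e
        · exact e.1 hr
      rw [e]
      exact Nat.beq_refl t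
    have hz : g ∈ Subgroup.center G := Subgroup.mem_center_iff.2 fun x => by
      have e := DFunLike.congr_fun h1 x
      simp only [MulAut.conj_apply, MulAut.one_apply] at e
      exact (mul_inv_eq_iff_eq_mul.1 e).symm
    rwa [hC.center, Subgroup.mem_bot] at hz
  · exfalso
    refine not_odd hC h (hσ.congr fun u hu => ?_) hinv hm hcount
    rcases hall u hu with e | e
    · rcases hmove u hu with e'' | e''
      · rw [e'', e]
      · exact e''.symm
    · exact ((hmove u hu).resolve_left fun e' => hr (e.2 e')).symm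

end Cfsg.Agent.TT95.Inv22
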