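import Cfsg.Agent.TT95.Inv22.Fix

/-!
Type M(22): the certificate for the fixed transpositions of the first involution.
-/

set_option autoImplicit false
set_option linter.unusedSectionVars false

namespace Cfsg.Agent.TT95.Inv22

open Cfsg.Agent.TT95.Uni22 Cfsg.Agent.TT95.Calc

theorem fixS_check : fixOK sPt selS pairsS (unpack 76 3510 sortedS) rootS (unpack 24 linkNS linksS) = true := by
  decide +kernel

theorem sPt_count : ((List.range 3510).countP fun t => Nat.beq (sPt t) t) + 2 * 1575 = 3510 := by decide +kernel

theorem selS_sub : (selS.all fun x => ptE.contains x) = true := by decide +kernel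

variable {G : Type*} [Group G] [Finite G] {D : Set G} (hC : Cfg22 D) [Gen D] {a d : G} {δ : ℕ → G}
  (h : Std D a d δ)

include hC h

/-- An element commuting with the first class is trivial. -/
theorem trivial_of_classE {s : MulAut G} (hs : PMap a d δ s sPt) {g : G}
    (hg : ∀ x ∈ ptE, Commute g (name a d δ x)) : g = 1 :=
  fix_trivial hC h fixS_check hs (fun _ => sPt_sPt) (m := 1575) (by decide) sPt_count fun x hx =>
    hg x (List.contains_iff_mem.1 (List.all_eq_true.1 selS_sub x hx))

/-- The first involution is not inner. -/
theorem not_inner_sigma {s : MulAut G} (hs : PMap a d δ s sPt) : s ∉ (MulAut.conj : G →* MulAut G).range := by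
  rintro ⟨g, rfl⟩
  exact not_odd hC h hs (fun _ => sPt_sPt) (m := 1575) (by decide) sPt_count

end Cfsg.Agent.TT95.Inv22
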