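import Cfsg.Agent.TT95.Inv22.Targets
import Cfsg.Agent.TT95.Inv22.DataClass

/-!
Type M(22): the common neighbours of two commuting transpositions on small tables, with the checks of
the tables.
-/

set_option autoImplicit false
set_option linter.unusedSectionVars false

namespace Cfsg.Agent.TT95.Inv22

open Cfsg.Agent.TT95.Uni22 Cfsg.Agent.TT95.Calc

/-- A table with entries of eight bits. -/
def tab8 (P x : ℕ) : ℕ := Nat.land (Nat.shiftRight P (Nat.mul 8 x)) 255

/-- A table with entries of six bits. -/
def tab6 (P x : ℕ) : ℕ := Nat.land (Nat.shiftRight P (Nat.mul 6 x)) 63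

/-- The common neighbours. -/
def xPt (x : ℕ) : ℕ := Calc.app xP x

/-- The key of a common neighbour. -/
def kidX (x : ℕ) : ℕ := tab6 kidP x

/-- The representative of a key. -/
def repX (j : ℕ) : ℕ := tab8 repP j

/-- A word of letters on the common neighbours. -/
def wX (w : List ℕ) (x : ℕ) : ℕ := w.foldr (fun i x => tab8 (letX.getD i 0) x) x

/-- A word of letters on the keys. -/
def wK (w : List ℕ) (j : ℕ) : ℕ := w.foldr (fun i j => tab6 (letK.getD i 0) j) j

/-- The points of a word of letters. -/
def wPts (w : List ℕ) : List ℕ := w.map fun i => letL.getD i 0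

/-- The pairs in a kernel part. -/
def kBits (bb : ℕ) : List ℕ := (List.range 8).filter fun i => Nat.testBit bb i

/-- The points of a kernel part. -/
def kerPts (bb : ℕ) : List ℕ := (kBits bb).flatMap fun i => [(kerP.getD i (0, 0)).1, (kerP.getD i (0, 0)).2]

/-- The points of a central part. -/
def cenPts (e : ℕ) : List ℕ := cond (Nat.testBit e 0) [0] [] ++ cond (Nat.testBit e 1) [ptB] []

/-- A kernel part on the common neighbours. -/
def kerXf (bb x : ℕ) : ℕ := (kBits bb).foldr (fun i x => tab8 (kerX.getD i 0) x) x

/-- The commutation pattern of a common neighbour. -/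
def patN (x : ℕ) : ℕ := (List.range 180).foldr (fun u acc => 2 * acc + cond (comB (xPt x) (xPt u)) 1 0) 0

theorem xPt_check : (((List.range 180).all fun x => Nat.blt (xPt x) 3510 && comB 0 (xPt x) && comB ptB (xPt x) &&
      !Nat.beq (xPt x) 0 && !Nat.beq (xPt x) ptB && Nat.blt (kidX x) 45) &&
    ((List.range 45).all fun j => Nat.blt (repX j) 180 && Nat.beq (kidX (repX j)) j) &&
    decide (((List.range 180).map xPt).Nodup) &&
    ((List.range 3510).all fun u => !(comB 0 u && comB ptB u && !Nat.beq u 0 && !Nat.beq u ptB) ||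
      ((List.range 180).map xPt).contains u)) = true := by decide +kernel

theorem pat_check : (Nat.beq patL.length 45 && decide (patL.Nodup) &&
    (List.range 180).all fun x => Nat.beq (patN x) (patL.getD (kidX x) 0)) = true := by decide +kernel

theorem letter_check : (Nat.beq letL.length 45 && (letL.all fun t => Nat.blt t 3510 && comB 0 t && comB ptB t) &&
    ((List.range 45).all fun i => (List.range 45).all fun j =>
      Nat.beq (tab6 (letK.getD i 0) j) (kidX (tab8 (letX.getD i 0) (repX j)))) &&
    ((List.range 45).all fun j => Nat.beq (tab6 sK j) (kidX (tab8 sX (repX j)))) &&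
    (List.range 180).all fun x => Nat.blt (tab8 sX x) 180 && Nat.beq (sPt (xPt x)) (xPt (tab8 sX x))) = true := by
  decide +kernel

theorem letX_check : ((List.range 45).all fun i => (List.range 180).all fun x =>
    Nat.blt (tab8 (letX.getD i 0) x) 180 &&
      Nat.beq (mv (letL.getD i 0) (xPt x)) (xPt (tab8 (letX.getD i 0) x))) = true := by
  decide +kernel

theorem kerX_check : ((List.range 8).all fun i =>
    Nat.blt (kerP.getD i (0, 0)).1 3510 && Nat.blt (kerP.getD i (0, 0)).2 3510 &&
    comB 0 (kerP.getD i (0, 0)).1 && comB 0 (kerP.getD i (0, 0)).2 &&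
    comB ptB (kerP.getD i (0, 0)).1 && comB ptB (kerP.getD i (0, 0)).2 &&
    ((List.range 45).all fun j => Nat.beq (kidX (tab8 (kerX.getD i 0) (repX j))) j) &&
    (List.range 180).all fun x => Nat.blt (tab8 (kerX.getD i 0) x) 180 &&
      Nat.beq (mvs [(kerP.getD i (0, 0)).1, (kerP.getD i (0, 0)).2] (xPt x)) (xPt (tab8 (kerX.getD i 0) x))) = true := by
  decide +kernel

end Cfsg.Agent.TT95.Inv22
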