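import Cfsg.Agent.TT95.Inv22.KeyDefs

/-!
Type M(22): automorphisms fixing two commuting transpositions act on the keys of their common neighbours.
-/

set_option autoImplicit false
set_option linter.unusedSectionVars false

namespace Cfsg.Agent.TT95.Inv22

open Cfsg.Agent.TT95.Uni22 Cfsg.Agent.TT95.Calc

variable {G : Type*} [Group G] [Finite G] {D : Set G} (hC : Cfg22 D) [Gen D] {a d : G} {δ : ℕ → G}
  (h : Std D a d δ)

/-- An automorphism preserving the class and fixing the two transpositions. -/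
def AB (D : Set G) (a d : G) (δ : ℕ → G) (α : MulAut G) : Prop :=
  (∀ x, α x ∈ D ↔ x ∈ D) ∧ α a = a ∧ α (bEl a d δ) = bEl a d δ

/-- The map of an automorphism on the common neighbours. -/
def XMap (a d : G) (δ : ℕ → G) (α : MulAut G) (f : ℕ → ℕ) : Prop :=
  ∀ x, x < 180 → f x < 180 ∧ α (name a d δ (xPt x)) = name a d δ (xPt (f x))

/-- The map of an automorphism on the keys. -/
def KMap (a d : G) (δ : ℕ → G) (α : MulAut G) (k : ℕ → ℕ) : Prop :=
  ∀ x, x < 180 → ∀ y, y < 180 → α (name a d δ (xPt x)) = name a d δ (xPt y) → kidX y = k (kidX x)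

/-- The pointwise stabiliser of the two transpositions. -/
def hGrp (a d : G) (δ : ℕ → G) : Subgroup G :=
  Subgroup.centralizer ({a} : Set G) ⊓ Subgroup.centralizer ({bEl a d δ} : Set G)

theorem AB.mul {α β : MulAut G} (hα : AB D a d δ α) (hβ : AB D a d δ β) : AB D a d δ (α * β) :=
  ⟨fun x => (hα.1 (β x)).trans (hβ.1 x), by rw [MulAut.mul_apply, hβ.2.1, hα.2.1],
    by rw [MulAut.mul_apply, hβ.2.2, hα.2.2]⟩

theorem AB.inv {α : MulAut G} (hα : AB D a d δ α) : AB D a d δ α⁻¹ := by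
  refine ⟨fun x => ?_, ?_, ?_⟩
  · have := hα.1 (α⁻¹ x)
    rw [show α (α⁻¹ x) = x from MulEquiv.apply_symm_apply α x] at this
    exact this.symm
  · conv_lhs => rw [← hα.2.1]
    exact MulEquiv.symm_apply_apply α a
  · conv_lhs => rw [← hα.2.2]
    exact MulEquiv.symm_apply_apply α _

theorem XMap.mul {α β : MulAut G} {f g : ℕ → ℕ} (hf : XMap a d δ α f) (hg : XMap a d δ β g) :
    XMap a d δ (α * β) (fun x => f (g x)) := fun x hx => by
  obtain ⟨h1, h2⟩ := hg x hx
  obtain ⟨h3, h4⟩ := hf _ h1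
  exact ⟨h3, by rw [MulAut.mul_apply, h2, h4]⟩

theorem xmap_one : XMap a d δ (1 : MulAut G) (fun x => x) := fun _ hx => ⟨hx, rfl⟩

theorem XMap.congr {α : MulAut G} {f g : ℕ → ℕ} (hf : XMap a d δ α f) (e : ∀ x, x < 180 → g x = f x) :
    XMap a d δ α g := fun x hx => by rw [e x hx]; exact hf x hx

theorem KMap.congr {α : MulAut G} {k l : ℕ → ℕ} (hk : KMap a d δ α k) (e : ∀ j, j < 45 → l j = k j) :
    KMap a d δ α l := fun x hx y hy he => by
  have hp := xPt_check
  simp only [Bool.and_eq_true, List.all_eq_true, List.mem_range, Nat.blt_eq] at hp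
  rw [e _ (hp.1.1.1 x hx).2]
  exact hk x hx y hy he

theorem xPt_lt {x : ℕ} (hx : x < 180) : xPt x < 3510 := by
  have hp := xPt_check
  simp only [Bool.and_eq_true, List.all_eq_true, List.mem_range, Nat.blt_eq] at hp
  exact (hp.1.1.1 x hx).1.1.1.1.1

theorem kidX_lt {x : ℕ} (hx : x < 180) : kidX x < 45 := by
  have hp := xPt_check
  simp only [Bool.and_eq_true, List.all_eq_true, List.mem_range, Nat.blt_eq] at hp
  exact (hp.1.1.1 x hx).2

theorem repX_spec {j : ℕ} (hj : j < 45) : repX j < 180 ∧ kidX (repX j) = j := by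
  have hp := xPt_check
  simp only [Bool.and_eq_true, List.all_eq_true, List.mem_range, Nat.blt_eq] at hp
  exact ⟨(hp.1.1.2 j hj).1, Nat.eq_of_beq_eq_true (hp.1.1.2 j hj).2⟩

/-- The bits of a folded pattern. -/
theorem foldr_bits {f g : ℕ → Bool} : ∀ (l : List ℕ),
    l.foldr (fun u acc => 2 * acc + cond (f u) 1 0) 0 = l.foldr (fun u acc => 2 * acc + cond (g u) 1 0) 0 →
    ∀ u ∈ l, f u = g u
  | [], _, u, hu => absurd hu List.not_mem_nil
  | v :: l, e, u, hu => by
    simp only [List.foldr_cons] at e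
    have h1 : f v = g v := by cases hf : f v <;> cases hg : g v <;> first | rfl | (exfalso; simp only [hf, hg, cond_true, cond_false] at e; omega)
    rcases List.mem_cons.1 hu with rfl | hu
    · exact h1
    · refine foldr_bits l ?_ u hu
      rw [h1] at e
      omega

include hC h

theorem xPt_spec {x : ℕ} (hx : x < 180) :
    Commute a (name a d δ (xPt x)) ∧ Commute (bEl a d δ) (name a d δ (xPt x)) ∧
      name a d δ (xPt x) ≠ a ∧ name a d δ (xPt x) ≠ bEl a d δ := by
  have hp := xPt_check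
  simp only [Bool.and_eq_true, List.all_eq_true, List.mem_range, Nat.blt_eq, Bool.not_eq_true'] at hp
  obtain ⟨⟨⟨⟨⟨h1, h2⟩, h3⟩, h4⟩, h5⟩, -⟩ := hp.1.1.1 x hx
  have hb := sPt_fix.2.2.1
  have c1 := (commute_iff hC h (by norm_num) h1).2 h2
  rw [name_zero hC h] at c1
  refine ⟨c1, (commute_iff hC h hb h1).2 h3, fun e => ?_, fun e => ?_⟩
  · rw [← name_zero hC h] at e
    rw [name_inj hC h h1 (by norm_num) e, Nat.beq_refl] at h4
    exact Bool.noConfusion h4
  · rw [name_inj hC h h1 hb e, Nat.beq_refl] at h5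
    exact Bool.noConfusion h5

theorem xName_inj {x y : ℕ} (hx : x < 180) (hy : y < 180)
    (e : name a d δ (xPt x) = name a d δ (xPt y)) : x = y := by
  have hp := xPt_check
  simp only [Bool.and_eq_true, decide_eq_true_eq] at hp
  exact List.inj_on_of_nodup_map hp.1.2 (List.mem_range.2 hx) (List.mem_range.2 hy)
    (name_inj hC h (xPt_lt hx) (xPt_lt hy) e)

theorem exists_x {u : G} (hu : u ∈ D) (ha : u ≠ a) (hb : u ≠ bEl a d δ) (ca : Commute a u)
    (cb : Commute (bEl a d δ) u) : ∃ x, x < 180 ∧ name a d δ (xPt x) = u := by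
  obtain ⟨t, ht, rfl⟩ := exists_name hC h hu
  have hp := xPt_check
  simp only [Bool.and_eq_true, List.all_eq_true, List.mem_range, Bool.or_eq_true, Bool.not_eq_true',
    List.contains_iff_mem, List.mem_map] at hp
  have hbl := sPt_fix.2.2.1
  have c1 : comB 0 t = true := (commute_iff hC h (by norm_num) ht).1 (by rw [name_zero hC h]; exact ca)
  have c2 : comB ptB t = true := (commute_iff hC h hbl ht).1 cb
  rcases hp.2 t ht with e | ⟨x, hx, ex⟩
  · simp only [Bool.and_eq_false_iff, Bool.not_eq_false'] at e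
    rcases e with ((e | e) | e) | e
    · rw [c1] at e; exact Bool.noConfusion e
    · rw [c2] at e; exact Bool.noConfusion e
    · exact absurd (by rw [Nat.eq_of_beq_eq_true e, name_zero hC h]) ha
    · exact absurd (by rw [Nat.eq_of_beq_eq_true e]; rfl) hb
  · exact ⟨x, hx, by rw [ex]⟩

theorem exists_xmap {α : MulAut G} (hα : AB D a d δ α) : ∃ f, XMap a d δ α f := by
  have : ∀ x, ∃ y, x < 180 → y < 180 ∧ α (name a d δ (xPt x)) = name a d δ (xPt y) := by
    intro x
    by_cases hx : x < 180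
    · obtain ⟨c1, c2, n1, n2⟩ := xPt_spec hC h hx
      obtain ⟨y, hy, ey⟩ := exists_x hC h ((hα.1 _).2 (name_mem hC h (xPt_lt hx)))
        (fun e => n1 (α.injective (e.trans hα.2.1.symm))) (fun e => n2 (α.injective (e.trans hα.2.2.symm)))
        (by have := c1.map α.toMonoidHom; rwa [MulEquiv.coe_toMonoidHom, hα.2.1] at this)
        (by have := c2.map α.toMonoidHom; rwa [MulEquiv.coe_toMonoidHom, hα.2.2] at this)
      exact ⟨y, fun _ => ⟨hy, ey.symm⟩⟩
    · exact ⟨0, fun h' => absurd h' hx⟩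
  choose f hf using this
  exact ⟨f, hf⟩

theorem kid_eq_iff {x y : ℕ} (hx : x < 180) (hy : y < 180) :
    kidX x = kidX y ↔ ∀ u, u < 180 → comB (xPt x) (xPt u) = comB (xPt y) (xPt u) := by
  have hp := pat_check
  simp only [Bool.and_eq_true, decide_eq_true_eq, List.all_eq_true, List.mem_range] at hp
  obtain ⟨⟨hlen, hnd⟩, hpat⟩ := hp
  have e1 := Nat.eq_of_beq_eq_true (hpat x hx)
  have e2 := Nat.eq_of_beq_eq_true (hpat y hy)
  constructor
  · intro e u hu
    have : patN x = patN y := by rw [e1, e2, e]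
    exact foldr_bits (f := fun u => comB (xPt x) (xPt u)) (g := fun u => comB (xPt y) (xPt u)) _ this u
      (List.mem_range.2 hu)
  · intro e
    have : patN x = patN y := by
      refine List.foldr_ext _ _ _ fun u hu acc => ?_
      rw [e u (List.mem_range.1 hu)]
    rw [e1, e2] at this
    have hl := Nat.eq_of_beq_eq_true hlen
    rw [List.getD_eq_getElem _ _ (by rw [hl]; exact kidX_lt hx),
      List.getD_eq_getElem _ _ (by rw [hl]; exact kidX_lt hy)] at this
    exact hnd.getElem_inj_iff.1 this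

theorem XMap.kmap {α : MulAut G} {f : ℕ → ℕ} (hf : XMap a d δ α f) :
    KMap a d δ α (fun j => kidX (f (repX j))) := by
  intro x hx y hy e
  obtain ⟨hr, hrk⟩ := repX_spec (kidX_lt hx)
  obtain ⟨hfx, efx⟩ := hf x hx
  obtain ⟨hfr, efr⟩ := hf _ hr
  obtain rfl : y = f x := xName_inj hC h hy hfx (e.symm.trans efx)
  refine (kid_eq_iff hC h hfx hfr).2 fun u hu => ?_
  have hinj : Function.Injective (fun v : Fin 180 => (⟨f v, (hf v v.2).1⟩ : Fin 180)) := fun v w ev => by
    refine Fin.ext (xName_inj hC h v.2 w.2 (α.injective ?_))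
    rw [(hf v v.2).2, (hf w w.2).2, show f v = f w from congrArg Fin.val ev]
  obtain ⟨v, hv⟩ := (Finite.injective_iff_surjective.1 hinj) ⟨u, hu⟩
  have hv' : f v = u := congrArg Fin.val hv
  have key : ∀ {z}, z < 180 → comB (xPt (f z)) (xPt u) = comB (xPt z) (xPt v) := fun {z} hz => by
    obtain ⟨h1, h2⟩ := hf z hz
    rw [Bool.eq_iff_iff, ← commute_iff hC h (xPt_lt h1) (xPt_lt hu), ← commute_iff hC h (xPt_lt hz) (xPt_lt v.2),
      ← h2, ← hv', ← (hf v v.2).2]
    exact commute_map_iff (f := α.toMonoidHom) α.injective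
  rw [key hx, key hr]
  exact (kid_eq_iff hC h hx hr).1 hrk.symm v v.2

theorem KMap.mul {α β : MulAut G} {k l : ℕ → ℕ} (hk : KMap a d δ α k) (hl : KMap a d δ β l)
    (hβ : AB D a d δ β) : KMap a d δ (α * β) (fun j => k (l j)) := by
  intro x hx y hy e
  obtain ⟨f, hf⟩ := exists_xmap hC h hβ
  obtain ⟨h1, h2⟩ := hf x hx
  rw [MulAut.mul_apply, h2] at e
  show kidX y = k (l (kidX x))
  rw [← hl x hx _ h1 h2]
  exact hk _ h1 y hy e

theorem KMap.unique {α : MulAut G} {k l : ℕ → ℕ} (hk : KMap a d δ α k) (hl : KMap a d δ α l)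
    (hα : AB D a d δ α) {j : ℕ} (hj : j < 45) : k j = l j := by
  obtain ⟨f, hf⟩ := exists_xmap hC h hα
  obtain ⟨hr, hrk⟩ := repX_spec hj
  obtain ⟨h1, h2⟩ := hf _ hr
  rw [← hrk, ← hk _ hr _ h1 h2, ← hl _ hr _ h1 h2]

theorem KMap.lt {α : MulAut G} {k : ℕ → ℕ} (hk : KMap a d δ α k) (hα : AB D a d δ α) {j : ℕ} (hj : j < 45) :
    k j < 45 := by
  obtain ⟨f, hf⟩ := exists_xmap hC h hα
  obtain ⟨hr, hrk⟩ := repX_spec hj
  obtain ⟨h1, h2⟩ := hf _ hr
  rw [← hrk, ← hk _ hr _ h1 h2]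
  exact kidX_lt h1

theorem kmap_one : KMap a d δ (1 : MulAut G) (fun j => j) := fun x hx y hy e => by
  rw [MulAut.one_apply] at e
  rw [xName_inj hC h hx hy e]

theorem ab_conj {g : G} (hg : g ∈ hGrp a d δ) : AB D a d δ (MulAut.conj g) := by
  obtain ⟨h1, h2⟩ := hg
  refine ⟨fun x => ⟨fun hx => ?_, fun hx => ?_⟩, ?_, ?_⟩
  · have := conj_mem hC.tt g⁻¹ hx
    rw [MulAut.conj_apply] at this
    rwa [inv_inv, show g⁻¹ * (g * x * g⁻¹) * g = x by group] at this
  · rw [MulAut.conj_apply]; exact conj_mem hC.tt g hx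
  · rw [MulAut.conj_apply, Subgroup.mem_centralizer_singleton_iff.1 h1, mul_inv_cancel_right]
  · rw [MulAut.conj_apply, Subgroup.mem_centralizer_singleton_iff.1 h2, mul_inv_cancel_right]

theorem hGrp_of_ab {g : G} (hg : AB D a d δ (MulAut.conj g)) : g ∈ hGrp a d δ :=
  ⟨Subgroup.mem_centralizer_singleton_iff.2 (mul_inv_eq_iff_eq_mul.1 hg.2.1),
    Subgroup.mem_centralizer_singleton_iff.2 (mul_inv_eq_iff_eq_mul.1 hg.2.2)⟩

theorem pts_mem_hGrp {l : List ℕ} (hl : ∀ t ∈ l, t < 3510 ∧ comB 0 t = true ∧ comB ptB t = true) :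
    (l.map (name a d δ)).prod ∈ hGrp a d δ := by
  refine list_prod_mem ?_
  intro x hx
  obtain ⟨t, ht, rfl⟩ := List.mem_map.1 hx
  obtain ⟨h1, h2, h3⟩ := hl t ht
  have c := (commute_iff hC h (by norm_num) h1).2 h2
  rw [name_zero hC h] at c
  exact ⟨Subgroup.mem_centralizer_singleton_iff.2 c.eq.symm,
    Subgroup.mem_centralizer_singleton_iff.2 ((commute_iff hC h sPt_fix.2.2.1 h1).2 h3).eq.symm⟩

end Cfsg.Agent.TT95.Inv22
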