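import Cfsg.Agent.TT95.Inv22.KeyMaps

/-!
Type M(22): the elements fixing two commuting transpositions and a key, listed.
-/

set_option autoImplicit false
set_option linter.unusedSectionVars false

namespace Cfsg.Agent.TT95.Inv22

open Cfsg.Agent.TT95.Uni22 Cfsg.Agent.TT95.Calc

/-- The code of a word on the keys. -/
def encK (w : List ℕ) : ℕ := (List.range 45).foldr (fun j acc => 64 * acc + wK w j) 0

/-- Strictly increasing. -/
def incB : List ℕ → Bool
  | [] => true
  | [_] => true
  | x :: y :: r => Nat.blt x y && incB (y :: r)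

/-- The orbit of the second transposition. -/
def orbOK : List ℕ → ℕ → Bool
  | [], seen => (List.range 3510).all fun u => !(comB 0 u && !Nat.beq u 0) || Nat.testBit seen u
  | e :: L, seen =>
    let g := e % 16
    let x := (e / 16) % 4096
    let y := (e / 16) / 4096
    Nat.blt g 12 && Nat.testBit seen x && Nat.blt y 3510 && Nat.beq (gt g x) y &&
      orbOK L (Nat.lor seen (Nat.shiftLeft 1 y))

theorem orb_check : ((List.range 12).all (fun g => Nat.beq (gt g 0) 0) && orbOK orbB (Nat.shiftLeft 1 ptB)) = true := by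
  decide +kernel

theorem words_check : (Nat.beq stabW.length 576 && Nat.beq toKey.length 45 && Nat.beq stabC.length 576 &&
    (stabW.all fun w => (w.all fun i => Nat.blt i 45) && Nat.beq (wK w key0) key0) &&
    ((List.range 45).all fun j => (((toKey.getD j []).all fun i => Nat.blt i 45) && Nat.beq (wK (toKey.getD j []) key0) j)) &&
    incB (stabW.map encK) && Nat.beq (stabW.getD 575 [0]).length 0 && Nat.blt key0 45) = true := by decide +kernel

theorem kerCode_check : (((List.range 256).map fun bb => probeX.foldr (fun x acc => 256 * acc + kerXf bb x) 0) == kerCode) = true := by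
  decide +kernel

theorem kerCode_nodup : decide (kerCode.Nodup) = true := by decide +kernel

theorem probe_lt : ∀ x ∈ probeX, x < 180 := by decide +kernel

theorem incB_spec : ∀ (l : List ℕ), incB l = true → l.Pairwise (· < ·)
  | [], _ => List.Pairwise.nil
  | [x], _ => List.pairwise_singleton _ x
  | x :: y :: r, hl => by
    simp only [incB, Bool.and_eq_true, Nat.blt_eq] at hl
    have ih := incB_spec (y :: r) hl.2
    refine List.Pairwise.cons (fun z hz => ?_) ih
    rcases List.mem_cons.1 hz with rfl | hz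
    · exact hl.1
    · exact hl.1.trans ((List.pairwise_cons.1 ih).1 z hz)

variable {G : Type*} [Group G] [Finite G] {D : Set G} (hC : Cfg22 D) [Gen D] {a d : G} {δ : ℕ → G}
  (h : Std D a d δ)

/-- The element of a word of letters. -/
def wEl (a d : G) (δ : ℕ → G) (w : List ℕ) : G := ((wPts w).map (name a d δ)).prod

/-- The element of a kernel part and a central part. -/
def kEl (a d : G) (δ : ℕ → G) (bb e : ℕ) : G := ((cenPts e ++ kerPts bb).map (name a d δ)).prod

include hC h

theorem wPts_ok {w : List ℕ} (hw : ∀ i ∈ w, i < 45) :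
    ∀ t ∈ wPts w, t < 3510 ∧ comB 0 t = true ∧ comB ptB t = true := by
  intro t ht
  obtain ⟨i, hi, rfl⟩ := List.mem_map.1 ht
  have hl := letter_check
  simp only [Bool.and_eq_true, List.all_eq_true, Nat.blt_eq] at hl
  obtain ⟨⟨⟨⟨hlen, hlet⟩, -⟩, -⟩, -⟩ := hl
  have hi' : i < letL.length := by rw [Nat.eq_of_beq_eq_true hlen]; exact hw i hi
  rw [List.getD_eq_getElem _ _ hi']
  obtain ⟨⟨h1, h2⟩, h3⟩ := hlet _ (List.getElem_mem hi')
  exact ⟨h1, h2, h3⟩

theorem kPts_ok (bb e : ℕ) : ∀ t ∈ cenPts e ++ kerPts bb, t < 3510 ∧ comB 0 t = true ∧ comB ptB t = true := by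
  intro t ht
  obtain ⟨-, -, hbl, -, hb0⟩ := sPt_fix
  have hbb : comB 0 0 = true ∧ comB ptB 0 = true ∧ comB ptB ptB = true := by decide +kernel
  have hk := kerX_check
  simp only [Bool.and_eq_true, List.all_eq_true, List.mem_range, Nat.blt_eq] at hk
  rcases List.mem_append.1 ht with ht | ht
  · simp only [cenPts, List.mem_append] at ht
    rcases ht with ht | ht
    · cases hb : Nat.testBit e 0 <;> rw [hb] at ht <;> simp at ht
      subst ht
      exact ⟨by norm_num, hbb.1, hbb.2.1⟩
    · cases hb : Nat.testBit e 1 <;> rw [hb] at ht <;> simp at ht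
      subst ht
      exact ⟨hbl, hb0, hbb.2.2⟩
  · simp only [kerPts, List.mem_flatMap, kBits, List.mem_filter, List.mem_range] at ht
    obtain ⟨i, ⟨hi, -⟩, ht⟩ := ht
    obtain ⟨⟨⟨⟨⟨⟨⟨k1, k2⟩, k3⟩, k4⟩, k5⟩, k6⟩, -⟩, -⟩ := hk i hi
    simp only [List.mem_cons, List.not_mem_nil, or_false] at ht
    rcases ht with rfl | rfl
    · exact ⟨k1, k3, k5⟩
    · exact ⟨k2, k4, k6⟩

theorem wEl_maps {w : List ℕ} (hw : ∀ i ∈ w, i < 45) :
    wEl a d δ w ∈ hGrp a d δ ∧ XMap a d δ (MulAut.conj (wEl a d δ w)) (wX w) ∧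
      KMap a d δ (MulAut.conj (wEl a d δ w)) (wK w) := by
  induction w with
  | nil =>
    have e : MulAut.conj (wEl a d δ []) = 1 := by simp [wEl, wPts]
    refine ⟨by simp [wEl, wPts, one_mem], ?_, ?_⟩ <;> rw [e]
    · exact xmap_one
    · exact kmap_one hC h
  | cons i w ih =>
    obtain ⟨h1, h2, h3⟩ := ih fun j hj => hw j (List.mem_cons_of_mem _ hj)
    have hi := hw i List.mem_cons_self
    have hpts := wPts_ok hC h (w := [i]) (by simpa using hi) (letL.getD i 0) (by simp [wPts])
    have hone : name a d δ (letL.getD i 0) ∈ hGrp a d δ := by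
      simpa using pts_mem_hGrp hC h (l := [letL.getD i 0]) (by simpa using hpts)
    have hX : XMap a d δ (MulAut.conj (name a d δ (letL.getD i 0))) (fun x => tab8 (letX.getD i 0) x) := by
      intro x hx
      have hl := List.all_eq_true.1 (List.all_eq_true.1 letX_check i (List.mem_range.2 hi)) x (List.mem_range.2 hx)
      rw [Bool.and_eq_true, Nat.blt_eq] at hl
      exact ⟨hl.1, by rw [(pmap_name hC h hpts.1 _ (xPt_lt hx)).2, Nat.eq_of_beq_eq_true hl.2]⟩
    have hK : KMap a d δ (MulAut.conj (name a d δ (letL.getD i 0))) (fun j => tab6 (letK.getD i 0) j) := by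
      refine (hX.kmap hC h).congr fun j hj => ?_
      have hl := letter_check
      simp only [Bool.and_eq_true, List.all_eq_true, List.mem_range] at hl
      exact Nat.eq_of_beq_eq_true (hl.1.1.2 i hi j hj)
    have e : wEl a d δ (i :: w) = name a d δ (letL.getD i 0) * wEl a d δ w := by simp [wEl, wPts]
    rw [e, map_mul]
    exact ⟨mul_mem hone h1, hX.mul h2, hK.mul hC h h3 (ab_conj hC h h1)⟩

theorem kEl_maps (bb e : ℕ) :
    kEl a d δ bb e ∈ hGrp a d δ ∧ XMap a d δ (MulAut.conj (kEl a d δ bb e)) (kerXf bb) ∧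
      KMap a d δ (MulAut.conj (kEl a d δ bb e)) (fun j => j) := by
  have hmem : kEl a d δ bb e ∈ hGrp a d δ := pts_mem_hGrp hC h (kPts_ok hC h bb e)
  refine ⟨hmem, ?_⟩
  -- the central part is trivial on the common neighbours
  have hcen : XMap a d δ (MulAut.conj ((cenPts e).map (name a d δ)).prod) (fun x => x) ∧
      ((cenPts e).map (name a d δ)).prod ∈ hGrp a d δ := by
    constructor
    · intro x hx
      refine ⟨hx, ?_⟩
      obtain ⟨c1, c2, -, -⟩ := xPt_spec hC h hx
      have : Commute ((cenPts e).map (name a d δ)).prod (name a d δ (xPt x)) := by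
        refine Commute.list_prod_left _ _ fun y hy => ?_
        obtain ⟨t, ht, rfl⟩ := List.mem_map.1 hy
        simp only [cenPts, List.mem_append] at ht
        rcases ht with ht | ht
        · cases hb : Nat.testBit e 0 <;> rw [hb] at ht <;> simp at ht
          subst ht
          rw [name_zero hC h]; exact c1
        · cases hb : Nat.testBit e 1 <;> rw [hb] at ht <;> simp at ht
          subst ht
          exact c2
      rw [MulAut.conj_apply, this.eq, mul_inv_cancel_right]
    · exact pts_mem_hGrp hC h fun t ht => kPts_ok hC h bb e t (List.mem_append_left _ ht)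
  have hker : ∀ (L : List ℕ), (∀ i ∈ L, i < 8) →
      let P := (L.flatMap fun i => [(kerP.getD i (0, 0)).1, (kerP.getD i (0, 0)).2]).map (name a d δ)
      P.prod ∈ hGrp a d δ ∧ XMap a d δ (MulAut.conj P.prod) (fun x => L.foldr (fun i x => tab8 (kerX.getD i 0) x) x) ∧
        KMap a d δ (MulAut.conj P.prod) (fun j => j) := by
    intro L
    induction L with
    | nil =>
      intro _
      refine ⟨by simp [one_mem], ?_, ?_⟩ <;> simp only [List.flatMap_nil, List.map_nil, List.prod_nil, map_one]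
      · exact xmap_one
      · exact kmap_one hC h
    | cons i L ih =>
      intro hL
      obtain ⟨h1, h2, h3⟩ := ih fun j hj => hL j (List.mem_cons_of_mem _ hj)
      have hk := kerX_check
      simp only [Bool.and_eq_true, List.all_eq_true, List.mem_range, Nat.blt_eq] at hk
      obtain ⟨⟨⟨⟨⟨⟨⟨k1, k2⟩, k3⟩, k4⟩, k5⟩, k6⟩, k7⟩, k8⟩ := hk i (hL i List.mem_cons_self)
      set t := (kerP.getD i (0, 0)).1 with htdef
      set u := (kerP.getD i (0, 0)).2 with hudef
      have hpair : ([t, u].map (name a d δ)).prod ∈ hGrp a d δ := pts_mem_hGrp hC h (by simp [k1, k2, k3, k4, k5, k6])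
      have hX : XMap a d δ (MulAut.conj ([t, u].map (name a d δ)).prod) (fun x => tab8 (kerX.getD i 0) x) := by
        intro x hx
        obtain ⟨b1, b2⟩ := k8 x hx
        exact ⟨b1, by rw [(pmap_prod hC h (l := [t, u]) (by simp [k1, k2]) _ (xPt_lt hx)).2,
          Nat.eq_of_beq_eq_true b2]⟩
      have hK : KMap a d δ (MulAut.conj ([t, u].map (name a d δ)).prod) (fun j => j) :=
        (hX.kmap hC h).congr fun j hj => (Nat.eq_of_beq_eq_true (k7 j hj)).symm
      have e : (((i :: L).flatMap fun i => [(kerP.getD i (0, 0)).1, (kerP.getD i (0, 0)).2]).map (name a d δ)).prod =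
          ([t, u].map (name a d δ)).prod *
            ((L.flatMap fun i => [(kerP.getD i (0, 0)).1, (kerP.getD i (0, 0)).2]).map (name a d δ)).prod := by
        rw [List.flatMap_cons, List.map_append, List.prod_append]
      simp only [e, map_mul]
      exact ⟨mul_mem hpair h1, hX.mul h2, hK.mul hC h h3 (ab_conj hC h h1)⟩
  obtain ⟨g1, g2, g3⟩ := hker (kBits bb) fun i hi => List.mem_range.1 (List.mem_filter.1 hi).1
  have e' : kEl a d δ bb e = ((cenPts e).map (name a d δ)).prod * ((kerPts bb).map (name a d δ)).prod := by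
    rw [kEl, List.map_append, List.prod_append]
  rw [e', map_mul]
  refine ⟨hcen.1.mul g2, ?_⟩
  exact (((hcen.1.kmap hC h).congr (l := fun j => j) fun j hj => (repX_spec hj).2.symm).mul hC h g3 (ab_conj hC h g1))

/-- The fixed-key elements. -/
def keyFix (a d : G) (δ : ℕ → G) : Set G :=
  {g | g ∈ hGrp a d δ ∧ ∃ k, KMap a d δ (MulAut.conj g) k ∧ k key0 = key0}

theorem card_keyFix (hcore : Core22 G D) : Nat.card (keyFix a d δ) = 589824 := by
  classical
  obtain ⟨hbD, hab, hcab⟩ := bEl_spec hC h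
  set Ca := Subgroup.centralizer ({a} : Set G) with hCa
  have hoc := orb_check
  rw [Bool.and_eq_true, List.all_eq_true] at hoc
  -- the orbit of the second transposition
  have horb : ∀ (L : List ℕ) (seen : ℕ), orbOK L seen = true →
      (∀ u, seen.testBit u = true → u < 3510 ∧ ∃ g ∈ Ca, g * bEl a d δ * g⁻¹ = name a d δ u) →
      ∀ u, u < 3510 → comB 0 u = true → u ≠ 0 → ∃ g ∈ Ca, g * bEl a d δ * g⁻¹ = name a d δ u := by
    intro L
    induction L with
    | nil =>
      intro seen hok hs u hu hc hne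
      have := List.all_eq_true.1 hok u (List.mem_range.2 hu)
      rw [hc, Bool.or_eq_true, Bool.not_eq_true', Bool.true_and, Bool.not_eq_false'] at this
      rcases this with e | e
      · exact absurd (Nat.eq_of_beq_eq_true e) hne
      · exact (hs u e).2
    | cons e L ih =>
      intro seen hok hs
      simp only [orbOK, Bool.and_eq_true, Nat.blt_eq] at hok
      obtain ⟨⟨⟨⟨o1, o2⟩, o3⟩, o4⟩, o5⟩ := hok
      refine ih _ o5 fun u hu => ?_
      rw [show Nat.lor seen (Nat.shiftLeft 1 (e / 16 / 4096)) = seen ||| 1 <<< (e / 16 / 4096) from rfl,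
        Nat.testBit_or, Nat.one_shiftLeft, Nat.testBit_two_pow, Bool.or_eq_true, decide_eq_true_eq] at hu
      rcases hu with hu | rfl
      · exact hs u hu
      obtain ⟨hx, g, hg, eg⟩ := hs _ o2
      have hgi : gen d δ (e % 16) ∈ Ca := by
        refine Subgroup.mem_centralizer_singleton_iff.2 ?_
        have h0 := (gt_spec hC h (i := e % 16) (by omega) (show 0 < 3510 by norm_num)).2
        rw [Nat.eq_of_beq_eq_true (hoc.1 (e % 16) (List.mem_range.2 o1)), name_zero hC h] at h0
        exact mul_inv_eq_iff_eq_mul.1 h0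
      refine ⟨o3, gen d δ (e % 16) * g, Ca.mul_mem hgi hg, ?_⟩
      rw [show gen d δ (e % 16) * g * bEl a d δ * (gen d δ (e % 16) * g)⁻¹ =
        gen d δ (e % 16) * (g * bEl a d δ * g⁻¹) * (gen d δ (e % 16))⁻¹ by group, eg,
        (gt_spec hC h (i := e % 16) (by omega) hx).2, Nat.eq_of_beq_eq_true o4]
  have hnb : ∀ y : nb D a, ∃ g ∈ Ca, g * bEl a d δ * g⁻¹ = y := by
    rintro ⟨y, hy1, hy2, hy3⟩
    obtain ⟨u, hu, rfl⟩ := exists_name hC h hy1
    refine horb orbB _ hoc.2 (fun v hv => ?_) u hu ?_ ?_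
    · rw [show Nat.shiftLeft 1 ptB = 1 <<< ptB from rfl, Nat.one_shiftLeft, Nat.testBit_two_pow,
        decide_eq_true_eq] at hv
      subst hv
      exact ⟨sPt_fix.2.2.1, 1, Ca.one_mem, by rw [one_mul, inv_one, mul_one]; rfl⟩
    · exact (commute_iff hC h (by norm_num) hu).1 (by rw [name_zero hC h]; exact hy3)
    · exact fun e0 => hy2 (by rw [e0, name_zero hC h])
  choose rep hrepC hrep using hnb
  have hmemH : ∀ {g}, g ∈ hGrp a d δ ↔ g ∈ Ca ∧ g * bEl a d δ * g⁻¹ = bEl a d δ := fun {g} =>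
    ⟨fun hg => ⟨hg.1, mul_inv_eq_iff_eq_mul.2 (Subgroup.mem_centralizer_singleton_iff.1 hg.2)⟩,
      fun hg => ⟨hg.1, Subgroup.mem_centralizer_singleton_iff.2 (mul_inv_eq_iff_eq_mul.1 hg.2)⟩⟩
  have hH : 693 * Nat.card (hGrp a d δ) = 18393661440 := by
    rw [← card_centralizer hC h.mema hcore, ← (lay22 hC h.mema).card_nb a h.mema, ← Nat.card_coe_set_eq,
      ← Nat.card_prod]
    let f : nb D a × hGrp a d δ → Ca := fun p => ⟨rep p.1 * p.2, Ca.mul_mem (hrepC p.1) p.2.2.1⟩
    refine Nat.card_eq_of_bijective f ⟨?_, ?_⟩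
    · rintro ⟨y, g⟩ ⟨z, k⟩ e
      have e' : rep y * (g : G) = rep z * k := congrArg Subtype.val e
      have hy : ∀ (w : nb D a) (g : hGrp a d δ), (rep w * (g : G)) * bEl a d δ * (rep w * (g : G))⁻¹ = w := fun w g => by
        rw [show rep w * (g : G) * bEl a d δ * (rep w * (g : G))⁻¹ =
          rep w * ((g : G) * bEl a d δ * (g : G)⁻¹) * (rep w)⁻¹ by group, (hmemH.1 g.2).2, hrep w]
      have hyz : y = z := Subtype.ext (by rw [← hy y g, ← hy z k, e'])
      subst hyz
      rw [Subtype.ext (mul_left_cancel e' : (g : G) = k)]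
    · rintro ⟨g, hg⟩
      have hy : g * bEl a d δ * g⁻¹ ∈ nb D a := by
        refine ⟨conj_mem hC.tt g hbD, fun e => ?_, ?_⟩
        · refine hab ?_
          have e' : g * a * g⁻¹ = a := mul_inv_eq_iff_eq_mul.2 (Subgroup.mem_centralizer_singleton_iff.1 hg)
          exact mul_left_cancel (mul_right_cancel (e'.trans e.symm))
        · have e' : g * a * g⁻¹ = a := mul_inv_eq_iff_eq_mul.2 (Subgroup.mem_centralizer_singleton_iff.1 hg)
          have := (Commute.conj_iff g).2 hcab
          rwa [e'] at this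
      refine ⟨(⟨_, hy⟩, ⟨(rep ⟨_, hy⟩)⁻¹ * g, hmemH.2 ⟨Ca.mul_mem (Ca.inv_mem (hrepC _)) hg, ?_⟩⟩), Subtype.ext ?_⟩
      · rw [show (rep ⟨_, hy⟩)⁻¹ * g * bEl a d δ * ((rep ⟨_, hy⟩)⁻¹ * g)⁻¹ =
          (rep ⟨_, hy⟩)⁻¹ * (g * bEl a d δ * g⁻¹) * rep ⟨_, hy⟩ by group]
        refine (congrArg (fun z => (rep ⟨_, hy⟩)⁻¹ * z * rep ⟨_, hy⟩) (hrep ⟨_, hy⟩).symm).trans ?_
        group
      · exact mul_inv_cancel_left _ _
  -- the orbit of the key
  have hw := words_check
  simp only [Bool.and_eq_true, List.all_eq_true, List.mem_range, Nat.blt_eq] at hw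
  obtain ⟨⟨⟨⟨-, htk⟩, -⟩, -⟩, hk45⟩ := hw
  let rk : Fin 45 → G := fun j => wEl a d δ (toKey.getD j [])
  have hrk : ∀ j : Fin 45, rk j ∈ hGrp a d δ ∧
      KMap a d δ (MulAut.conj (rk j)) (wK (toKey.getD j [])) ∧ wK (toKey.getD j []) key0 = j := fun j => by
    obtain ⟨t1, t2⟩ := htk j j.2
    obtain ⟨m1, -, m3⟩ := wEl_maps hC h t1
    exact ⟨m1, m3, Nat.eq_of_beq_eq_true t2⟩
  have h45 : 45 * Nat.card (keyFix a d δ) = Nat.card (hGrp a d δ) := by
    conv_lhs => rw [← Fintype.card_fin 45, ← Nat.card_eq_fintype_card, ← Nat.card_prod]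
    let f : Fin 45 × keyFix a d δ → hGrp a d δ := fun p => ⟨rk p.1 * p.2, mul_mem (hrk p.1).1 p.2.2.1⟩
    refine Nat.card_eq_of_bijective f ⟨?_, ?_⟩
    · rintro ⟨i, g⟩ ⟨j, k⟩ e
      have e' : rk i * (g : G) = rk j * k := congrArg Subtype.val e
      have hij : i = j := by
        obtain ⟨gk, hgk, hg0⟩ := g.2.2
        obtain ⟨kk, hkk, hk0⟩ := k.2.2
        have m1 := (hrk i).2.1.mul hC h hgk (ab_conj hC h g.2.1)
        have m2 := (hrk j).2.1.mul hC h hkk (ab_conj hC h k.2.1)
        rw [← map_mul] at m1 m2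
        rw [e'] at m1
        have := KMap.unique hC h m1 m2 (ab_conj hC h (mul_mem (hrk j).1 k.2.1)) hk45
        simp only [hg0, hk0, (hrk i).2.2, (hrk j).2.2] at this
        exact Fin.ext this
      subst hij
      rw [Subtype.ext (mul_left_cancel e' : (g : G) = k)]
    · rintro ⟨g, hg⟩
      obtain ⟨f', hf'⟩ := exists_xmap hC h (ab_conj hC h hg)
      have hk := hf'.kmap hC h
      have hlt := hk.lt hC h (ab_conj hC h hg) hk45
      set j : Fin 45 := ⟨_, hlt⟩ with hjdef
      have hinv : (rk j)⁻¹ * g ∈ keyFix a d δ := by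
        refine ⟨mul_mem (inv_mem (hrk j).1) hg, ?_⟩
        obtain ⟨f'', hf''⟩ := exists_xmap hC h (ab_conj hC h (inv_mem (hrk j).1))
        have hk2 := hf''.kmap hC h
        refine ⟨_, by rw [map_mul]; exact hk2.mul hC h hk (ab_conj hC h hg), ?_⟩
        have h1 := hk2.mul hC h (hrk j).2.1 (ab_conj hC h (hrk j).1)
        rw [← map_mul, inv_mul_cancel, map_one] at h1
        have h2 := KMap.unique hC h h1 (kmap_one hC h) ⟨fun x => Iff.rfl, rfl, rfl⟩ hk45
        simp only [(hrk j).2.2] at h2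
        exact h2
      exact ⟨(j, ⟨_, hinv⟩), Subtype.ext (mul_inv_cancel_left _ _)⟩
  omega

theorem exists_decomp (hcore : Core22 G D) {g : G} (hg : g ∈ keyFix a d δ) :
    ∃ i bb e, i < 576 ∧ bb < 256 ∧ e < 4 ∧ g = wEl a d δ (stabW.getD i []) * kEl a d δ bb e := by
  classical
  have hw := words_check
  simp only [Bool.and_eq_true, List.all_eq_true, List.mem_range, Nat.blt_eq] at hw
  obtain ⟨⟨⟨⟨⟨⟨⟨hlen, -⟩, -⟩, hsw⟩, -⟩, hinc⟩, -⟩, hk45⟩ := hw
  have hlen' := Nat.eq_of_beq_eq_true hlen
  have hwi : ∀ i : Fin 576, stabW.getD i [] ∈ stabW := fun i => by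
    rw [List.getD_eq_getElem _ _ (by rw [hlen']; exact i.2)]
    exact List.getElem_mem _
  have hwl : ∀ i : Fin 576, ∀ j ∈ stabW.getD i [], j < 45 := fun i => (hsw _ (hwi i)).1
  let Φ : Fin 576 × Fin 256 × Fin 4 → keyFix a d δ := fun p =>
    ⟨wEl a d δ (stabW.getD p.1 []) * kEl a d δ p.2.1 p.2.2, by
      obtain ⟨m1, -, m3⟩ := wEl_maps hC h (hwl p.1)
      obtain ⟨n1, -, n3⟩ := kEl_maps hC h p.2.1 p.2.2
      refine ⟨mul_mem m1 n1, _, ?_, Nat.eq_of_beq_eq_true (hsw _ (hwi p.1)).2⟩
      rw [map_mul]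
      exact m3.mul hC h n3 (ab_conj hC h n1)⟩
  have hinj : Function.Injective Φ := by
    rintro ⟨i, bb, e⟩ ⟨i', bb', e'⟩ heq
    have hval : wEl a d δ (stabW.getD i []) * kEl a d δ bb e =
        wEl a d δ (stabW.getD i' []) * kEl a d δ bb' e' := congrArg Subtype.val heq
    obtain ⟨m1, -, m3⟩ := wEl_maps hC h (hwl i)
    obtain ⟨n1, n2, n3⟩ := kEl_maps hC h (bb : ℕ) (e : ℕ)
    obtain ⟨m1', -, m3'⟩ := wEl_maps hC h (hwl i')
    obtain ⟨n1', n2', n3'⟩ := kEl_maps hC h (bb' : ℕ) (e' : ℕ)
    have hi : i = i' := by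
      have k1 := m3.mul hC h n3 (ab_conj hC h n1)
      have k2 := m3'.mul hC h n3' (ab_conj hC h n1')
      rw [← map_mul] at k1 k2
      rw [hval] at k1
      have henc : encK (stabW.getD i []) = encK (stabW.getD i' []) := by
        refine List.foldr_ext _ _ _ fun j hj acc => ?_
        rw [KMap.unique hC h k1 k2 (ab_conj hC h (mul_mem m1' n1')) (List.mem_range.1 hj)]
      have hp := incB_spec _ hinc
      have hnd : (stabW.map encK).Nodup := hp.imp fun hab => Nat.ne_of_lt hab
      have l1 : (i : ℕ) < stabW.length := by rw [hlen']; exact i.2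
      have l2 : (i' : ℕ) < stabW.length := by rw [hlen']; exact i'.2
      rw [List.getD_eq_getElem _ _ l1, List.getD_eq_getElem _ _ l2] at henc
      refine Fin.ext ((hnd.getElem_inj_iff (i := (i : ℕ)) (j := (i' : ℕ)) (hi := by rw [List.length_map]; exact l1)
        (hj := by rw [List.length_map]; exact l2)).1 ?_)
      rw [List.getElem_map, List.getElem_map]
      exact henc
    subst hi
    have hk := mul_left_cancel hval
    have hbb : bb = bb' := by
      have hx : ∀ x, x < 180 → kerXf bb x = kerXf bb' x := fun x hx => by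
        obtain ⟨p1, p2⟩ := n2 x hx
        obtain ⟨q1, q2⟩ := n2' x hx
        rw [hk] at p2
        exact xName_inj hC h p1 q1 (p2.symm.trans q2)
      have hc := kerCode_check
      rw [beq_iff_eq] at hc
      have hnd := kerCode_nodup
      rw [decide_eq_true_eq, ← hc] at hnd
      refine Fin.ext (List.inj_on_of_nodup_map hnd (List.mem_range.2 bb.2) (List.mem_range.2 bb'.2) ?_)
      exact List.foldr_ext _ _ _ fun x hx' acc => by rw [hx x (probe_lt x hx')]
    subst hbb
    have hc : ((cenPts e).map (name a d δ)).prod = ((cenPts e').map (name a d δ)).prod := by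
      simp only [kEl, List.map_append, List.prod_append] at hk
      exact mul_right_cancel hk
    have hbD := (bEl_spec hC h).1
    have hab := (bEl_spec hC h).2.1
    have na : a ≠ 1 := ne_one hC.tt h.mema
    have nb' : bEl a d δ ≠ 1 := ne_one hC.tt hbD
    have nab : a * bEl a d δ ≠ 1 := fun e => hab ((eq_inv_of_mul_eq_one_left e).trans (inv_eq hC.tt hbD))
    have hne : ∀ e e' : Fin 4, ((cenPts e).map (name a d δ)).prod = ((cenPts e').map (name a d δ)).prod → e = e' := by
      intro e e'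
      have hz := name_zero hC h
      have hb : name a d δ ptB = bEl a d δ := rfl
      fin_cases e <;> fin_cases e' <;>
        simp [cenPts, hz, hb, Nat.testBit, na, nb', nab, na.symm, nb'.symm, nab.symm, hab, hab.symm]
    rw [hne e e' hc]
  have hcard : Nat.card (Fin 576 × Fin 256 × Fin 4) = Nat.card (keyFix a d δ) := by
    rw [card_keyFix hC h hcore]; simp
  obtain ⟨⟨i, bb, e⟩, he⟩ := ((Nat.bijective_iff_injective_and_card Φ).2 ⟨hinj, hcard⟩).2 ⟨g, hg⟩
  exact ⟨i, bb, e, i.2, bb.2, e.2, (congrArg Subtype.val he).symm⟩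

end Cfsg.Agent.TT95.Inv22
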