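import Cfsg.Agent.TT95.Inv22.Basic
import Cfsg.Agent.TT95.Inv22.DataS

/-!
Type M(22): an outer involution and two more in its coset, from their maps of the points.
-/

set_option autoImplicit false
set_option linter.unusedSectionVars false

namespace Cfsg.Agent.TT95.Inv22

open Cfsg.Agent.TT95.Uni22 Cfsg.Agent.TT95.Calc

/-- The map of the involution. -/
def sPt (t : ℕ) : ℕ := Calc.app sP t

/-- The map of the second involution. -/
def r1Pt (t : ℕ) : ℕ := sPt (mv 0 t)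

/-- The map of the third involution. -/
def r2Pt (t : ℕ) : ℕ := sPt (mvs [0, ptB] t)

theorem sPt_check : ((List.range 3510).all fun t => Nat.blt (sPt t) 3510 && Nat.beq (sPt (sPt t)) t) = true := by
  decide +kernel

theorem conj_check : ((List.range 13).all fun i => (List.range 3510).all fun t =>
    Nat.beq (sPt (gt i t)) (mv (sPt (tgL.getD i 0)) (sPt t))) = true := by
  decide +kernel

theorem sPt_fix : sPt 0 = 0 ∧ sPt ptB = ptB ∧ ptB < 3510 ∧ ptB ≠ 0 ∧ comB 0 ptB = true := by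
  decide +kernel

theorem sPt_lt {t : ℕ} (ht : t < 3510) : sPt t < 3510 :=
  Nat.le_of_ble_eq_true (Bool.and_eq_true_iff.1 (List.all_eq_true.1 sPt_check t (List.mem_range.2 ht))).1

theorem sPt_sPt {t : ℕ} (ht : t < 3510) : sPt (sPt t) = t :=
  Nat.eq_of_beq_eq_true (Bool.and_eq_true_iff.1 (List.all_eq_true.1 sPt_check t (List.mem_range.2 ht))).2

variable {G : Type*} [Group G] [Finite G] {D : Set G} (hC : Cfg22 D) [Gen D] {a d : G} {δ : ℕ → G}
  (h : Std D a d δ)

include hC h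

/-- The involutory automorphism with the given map of the points. -/
theorem exists_sigma : ∃ s : MulAut G, PMap a d δ s sPt ∧ s * s = 1 := by
  classical
  obtain ⟨Φ, hinj, hr, hgen, hΦ⟩ := exists_perm_rep hC h
  let Pf : Equiv.Perm (Fin 3510) :=
    ⟨fun t => ⟨sPt t, sPt_lt t.2⟩, fun t => ⟨sPt t, sPt_lt t.2⟩, fun t => Fin.ext (sPt_sPt t.2),
      fun t => Fin.ext (sPt_sPt t.2)⟩
  have hPP : Pf * Pf = 1 := Equiv.ext fun t => Fin.ext (sPt_sPt t.2)
  have hPi : Pf⁻¹ = Pf := inv_eq_of_mul_eq_one_right hPP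
  have hval : ∀ (g : G) (t : Fin 3510) (u : ℕ), u < 3510 → g * name a d δ t * g⁻¹ = name a d δ u →
      ((Φ g t : Fin 3510) : ℕ) = u := fun g t u hu e =>
    name_inj hC h (Φ g t).2 hu ((hΦ g t).trans e)
  have hgi : ∀ i, i < 13 → Pf * Φ (gen d δ i) * Pf = Φ (name a d δ (sPt (tgL.getD i 0))) := by
    intro i hi
    refine Equiv.ext fun t => Fin.ext ?_
    show sPt ((Φ (gen d δ i) (Pf t) : Fin 3510) : ℕ) = _
    obtain ⟨g1, g2⟩ := gt_spec hC h hi (sPt_lt t.2)
    have e1 : ((Φ (gen d δ i) (Pf t) : Fin 3510) : ℕ) = gt i (sPt t) := hval _ _ _ g1 g2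
    obtain ⟨m1, m2⟩ := pmap_name hC h (sPt_lt (tgL_lt hC h hi)) t t.2
    rw [hval _ t _ m1 m2, e1, Nat.eq_of_beq_eq_true
      (List.all_eq_true.1 (List.all_eq_true.1 conj_check i (List.mem_range.2 hi)) (sPt t)
        (List.mem_range.2 (sPt_lt t.2))), sPt_sPt t.2]
  have hmem : ∀ g, Pf * Φ g * Pf ∈ Φ.range := by
    intro g
    have hle : Φ.range ≤ Φ.range.comap (MulAut.conj Pf).toMonoidHom := by
      conv_lhs => rw [hr]
      rw [Subgroup.closure_le]
      rintro _ ⟨i, hi, rfl⟩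
      show Pf * Φ (gen d δ i) * Pf⁻¹ ∈ Φ.range
      rw [hPi, hgi i hi]
      exact ⟨_, rfl⟩
    have h2 : Pf * Φ g * Pf⁻¹ ∈ Φ.range := hle ⟨g, rfl⟩
    rwa [hPi] at h2
  choose f hf using hmem
  have hff : ∀ g, f (f g) = g := fun g => hinj (by
    rw [hf, hf, show Pf * (Pf * Φ g * Pf) * Pf = (Pf * Pf) * Φ g * (Pf * Pf) by group, hPP, one_mul, mul_one])
  let e : MulAut G :=
    { toFun := f
      invFun := f
      left_inv := hff
      right_inv := hff
      map_mul' := fun x y => hinj (by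
        rw [map_mul, hf, hf, hf, map_mul,
          show Pf * Φ x * Pf * (Pf * Φ y * Pf) = Pf * Φ x * (Pf * Pf) * Φ y * Pf by group, hPP, mul_one]
        group) }
  refine ⟨e, fun t ht => ⟨sPt_lt ht, ?_⟩, MulEquiv.ext hff⟩
  -- the image of the twelfth generator, and of its conjugates
  have ht0 : tgL.getD 12 0 < 3510 := tgL_lt hC h (by norm_num)
  have e0 : f (name a d δ (tgL.getD 12 0)) = name a d δ (sPt (tgL.getD 12 0)) := hinj (by
    rw [hf, ← gen_eq_name hC h (by norm_num : 12 < 13), hgi 12 (by norm_num)])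
  obtain ⟨g, hg⟩ := hC.one _ (name_mem hC h ht0) _ (name_mem hC h ht)
  have hgt : ((Φ g ⟨_, ht0⟩ : Fin 3510) : ℕ) = t := hval g ⟨_, ht0⟩ t ht hg
  show f (name a d δ t) = _
  rw [← hg]
  have hmul : f (g * name a d δ (tgL.getD 12 0) * g⁻¹) = f g * name a d δ (sPt (tgL.getD 12 0)) * (f g)⁻¹ := by
    have := map_mul e (g * name a d δ (tgL.getD 12 0)) g⁻¹
    rw [map_mul e g, map_inv] at this
    rw [← e0]
    exact this
  rw [hmul]
  have := hΦ (f g) ⟨sPt (tgL.getD 12 0), sPt_lt ht0⟩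
  rw [hf g] at this
  rw [← this]
  congr 1
  show sPt ((Φ g (Pf ⟨sPt (tgL.getD 12 0), _⟩) : Fin 3510) : ℕ) = sPt t
  rw [show Pf ⟨sPt (tgL.getD 12 0), sPt_lt ht0⟩ = ⟨_, ht0⟩ from Fin.ext (sPt_sPt ht0), hgt]

end Cfsg.Agent.TT95.Inv22
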